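import Cfsg.Agent.SB.Exc.Defs
import Cfsg.Agent.SB.Master
import Cfsg.Agent.DS.Nt.Box

/-!
# S5765, exceptional groups: inner-diagonal elements, the Fitting subgroup, arithmetic (helper86)

* `theta F hT : F.ID hT →* Y` : the element of `Y` inducing an inner-diagonal element;
* `card_le_dM`, `card_ID_le` : the index of `T` in the inner-diagonal group;
* `setup`, `ntCtx` : the contexts of DS;
* `le_fit`, `fit_cent`, `card_le_aut`, `card_mulAut_le`;
* `scale`, `crit` : `BoxCrit` from inequalities for the smallest `q`.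
-/

set_option autoImplicit false
set_option linter.unusedSectionVars false

namespace Cfsg.Agent.SB.Exc.NT

open CoxeterSystem Cfsg Cfsg.Lie Cfsg.Lie.ChevalleyDatum
open Cfsg.Agent.ChevalleyStructure Cfsg.Agent.Nodes.RGDChev Cfsg.Agent.KFacts.RgdChevCoord
open Cfsg.Agent.H469.Exc Cfsg.Agent.H316.U6 Cfsg.Agent.DS.Ex Cfsg.Agent.H786.FC

section Theta

variable {D : ChevalleyDatum} {l : ℕ} {M : CoxeterMatrix (Fin l)} {hp : IsType D l M} {p : ℕ} [Fact p.Prime]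
  {q : ℕ} {G : Type} [Group G] {T S : Subgroup G} {F : XF hp p q T}

theorem ind_unique (hT : T.Normal) {y y' : YY D p} {c : G} (h : F.Ind y c) (h' : F.Ind y' c) : y = y' := by
  have h1 : y'⁻¹ * y = 1 := F.L.cent _ fun x => by
    have h2 := h x ⟨c * x * c⁻¹, hT.conj_mem _ x.2 c⟩ rfl
    have h3 := h' x ⟨c * x * c⁻¹, hT.conj_mem _ x.2 c⟩ rfl
    calc y'⁻¹ * y * F.L.ι x = y'⁻¹ * (y * F.L.ι x * y⁻¹) * y := by group
      _ = y'⁻¹ * (y' * F.L.ι x * y'⁻¹) * y := by rw [h2, h3]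
      _ = _ := by group
  exact (inv_mul_eq_one.1 h1).symm

theorem ind_mul (hT : T.Normal) {y y' : YY D p} {c c' : G} (h : F.Ind y c) (h' : F.Ind y' c') :
    F.Ind (y * y') (c * c') := fun x x' e => by
  have h1 := h' x ⟨c' * x * c'⁻¹, hT.conj_mem _ x.2 c'⟩ rfl
  have h2 := h ⟨c' * x * c'⁻¹, hT.conj_mem _ x.2 c'⟩ x' (by rw [e]; group)
  rw [← h2, ← h1]
  group

theorem ind_iota (x : T) : F.Ind (F.L.ι x) x := fun u u' e => by
  rw [← map_inv, ← map_mul, ← map_mul]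
  congr 1
  exact Subtype.ext e.symm

theorem ind_fix {y : YY D p} {c : G} (h : F.Ind y c) : F.L.σ y = y := by
  have h1 := F.L.comm_σ _ (F.L.full y c h)
  have h2 : y⁻¹ * F.L.σ y = 1 := F.L.cent _ fun x => by
    have h3 := congrArg (fun β : MulAut (YY D p) => β (F.L.ι x)) h1
    simp only [MulAut.mul_apply, MulAut.conj_apply, map_mul, map_inv, F.L.fix] at h3
    calc y⁻¹ * F.L.σ y * F.L.ι x = y⁻¹ * (F.L.σ y * F.L.ι x * (F.L.σ y)⁻¹) * F.L.σ y := by group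
      _ = y⁻¹ * (y * F.L.ι x * y⁻¹) * F.L.σ y := by rw [h3]
      _ = _ := by group
  exact (inv_mul_eq_one.1 h2).symm

theorem ind_app (hT : T.Normal) {y : YY D p} {c : G} (h : F.Ind y c) (φ : F.L.Γ) :
    F.Ind ((φ : MulAut (YY D p)) y) (F.L.π φ * c * (F.L.π φ)⁻¹) := fun x x' e => by
  have h1 := F.L.act φ ⟨(F.L.π φ)⁻¹ * x * (F.L.π φ)⁻¹⁻¹, hT.conj_mem _ x.2 _⟩ x (by
    show (x : G) = _ * ((F.L.π φ)⁻¹ * x * (F.L.π φ)⁻¹⁻¹) * _
    group)
  have h2 := F.L.act φ ⟨(F.L.π φ)⁻¹ * x' * (F.L.π φ)⁻¹⁻¹, hT.conj_mem _ x'.2 _⟩ x' (by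
    show (x' : G) = _ * ((F.L.π φ)⁻¹ * x' * (F.L.π φ)⁻¹⁻¹) * _
    group)
  have h3 := h ⟨(F.L.π φ)⁻¹ * x * (F.L.π φ)⁻¹⁻¹, hT.conj_mem _ x.2 _⟩
    ⟨(F.L.π φ)⁻¹ * x' * (F.L.π φ)⁻¹⁻¹, hT.conj_mem _ x'.2 _⟩ (by
      show (F.L.π φ)⁻¹ * x' * (F.L.π φ)⁻¹⁻¹ = c * ((F.L.π φ)⁻¹ * x * (F.L.π φ)⁻¹⁻¹) * c⁻¹
      rw [e]
      group)
  rw [← h2, ← h3, map_mul, map_mul, map_inv, h1]

theorem ind_comm {y : YY D p} {c : G} (h : F.Ind y c) {x : T} (hx : c * x = x * c) : y * F.L.ι x = F.L.ι x * y := by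
  have h1 := h x x (by rw [hx, mul_inv_cancel_right])
  exact mul_inv_eq_iff_eq_mul.1 h1

variable (F) in
/-- the element of `Y` inducing an inner-diagonal element -/
noncomputable def theta (hT : T.Normal) : F.ID hT →* YY D p :=
  MonoidHom.mk' (fun c => Classical.choose c.2) fun c c' => ind_unique hT (Classical.choose_spec (c * c').2)
    (ind_mul hT (Classical.choose_spec c.2) (Classical.choose_spec c'.2))

theorem theta_ind (hT : T.Normal) (c : F.ID hT) : F.Ind (theta F hT c) c := Classical.choose_spec c.2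

theorem theta_eq (hT : T.Normal) {y : YY D p} {c : G} (h : F.Ind y c) : theta F hT ⟨c, y, h⟩ = y :=
  ind_unique hT (theta_ind hT _) h

theorem le_ID (hT : T.Normal) : T ≤ F.ID hT := fun x hx => ⟨_, ind_iota ⟨x, hx⟩⟩

theorem theta_iota (hT : T.Normal) (x : T) : theta F hT ⟨x, le_ID hT x.2⟩ = F.L.ι x := theta_eq hT (ind_iota x)

theorem theta_inj (hT : AS T) : Function.Injective (theta F hT.normal) := by
  rw [injective_iff_map_eq_one]
  intro c hc
  have h1 : (c : G) ∈ Subgroup.centralizer (T : Set G) := Subgroup.mem_centralizer_iff.2 fun x hx => by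
    have h2 := theta_ind hT.normal c ⟨x, hx⟩ ⟨c * x * (c : G)⁻¹, hT.normal.conj_mem _ hx c⟩ rfl
    rw [hc, one_mul, inv_one, mul_one] at h2
    have h3 : x = c * x * (c : G)⁻¹ := congrArg Subtype.val (F.L.inj h2)
    exact (mul_inv_eq_iff_eq_mul.1 h3.symm).symm
  rw [hT.cent, Subgroup.mem_bot] at h1
  exact Subtype.ext h1

theorem mem_T_of_ind (hT : AS T) {y : YY D p} {c : G} (h : F.Ind y c) (hy : y ∈ F.L.ι.range) : c ∈ T := by
  obtain ⟨x, rfl⟩ := hy
  have h1 : (⟨c, _, h⟩ : F.ID hT.normal) = ⟨x, le_ID hT.normal x.2⟩ :=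
    theta_inj hT (by rw [theta_eq hT.normal h, theta_iota])
  rw [show c = x from congrArg Subtype.val h1]
  exact x.2

theorem conj_mem_ID (hT : T.Normal) {c : G} (hc : c ∈ F.ID hT) (g : G) : g * c * g⁻¹ ∈ F.ID hT := by
  obtain ⟨y, hy⟩ := hc
  obtain ⟨φ, rfl⟩ := F.L.surj g
  exact ⟨_, ind_app hT hy φ⟩

variable (F) in
/-- the image in `Y` of the inner-diagonal part of `X` -/
noncomputable def imD (hT : T.Normal) (X : Subgroup G) : Subgroup (YY D p) := (X.subgroupOf (F.ID hT)).map (theta F hT)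

theorem mem_imD (hT : T.Normal) {X : Subgroup G} {y : YY D p} : y ∈ imD F hT X ↔ ∃ c ∈ X, F.Ind y c :=
  ⟨fun ⟨c, h1, h2⟩ => ⟨c, h1, h2 ▸ theta_ind hT c⟩, fun ⟨c, h1, h2⟩ => ⟨⟨c, y, h2⟩, h1, theta_eq hT h2⟩⟩

theorem card_imD (hT : AS T) (X : Subgroup G) : Nat.card (imD F hT.normal X) = Nat.card ↥(X ⊓ F.ID hT.normal) := by
  unfold imD
  rw [Subgroup.card_map_of_injective (theta_inj hT), ← Subgroup.inf_subgroupOf_right]
  exact Nat.card_congr (Subgroup.subgroupOfEquivOfLe inf_le_right).toEquiv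

theorem inv_imD (hT : T.Normal) {X : Subgroup G} (hX : Nm S X) : F.L.Inv S (imD F hT X) := by
  intro φ hφ y hy
  obtain ⟨c, h1, h2⟩ := (mem_imD hT).1 hy
  exact (mem_imD hT).2 ⟨_, hX _ hφ c h1, ind_app hT h2 φ⟩

theorem imD_le_fix (hT : T.Normal) (X : Subgroup G) : imD F hT X ≤ DL.fix F.L.σ := fun _ hy => by
  obtain ⟨c, -, h2⟩ := (mem_imD hT).1 hy
  exact ind_fix h2

variable [Finite G]

theorem finite_imD (hT : T.Normal) (X : Subgroup G) : Finite (imD F hT X) :=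
  Finite.of_surjective (fun x : X.subgroupOf (F.ID hT) => (⟨theta F hT x, x, x.2, rfl⟩ : imD F hT X)) (by
    rintro ⟨_, x, hx, rfl⟩
    exact ⟨⟨x, hx⟩, rfl⟩)

theorem finite_fix (F : XF hp p q T) : Finite (DL.fix F.L.σ) := F.L.fin

theorem card_le_dM {B : Subgroup (YY D p)} (hB : B ≤ DL.fix F.L.σ) :
    Nat.card B ≤ dM l * Nat.card ↥(B ⊓ F.L.ι.range) := by
  have := finite_fix F
  have hK : F.L.ι.range ≤ DL.fix F.L.σ := by
    rintro _ ⟨x, rfl⟩
    exact F.L.fix x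
  have h1 : Nat.card F.L.ι.range = Nat.card T := (Nat.card_congr (MonoidHom.ofInjective F.L.inj).toEquiv).symm
  have h2 := card_eq_mul_relIndex hK
  have h3 : F.L.ι.range.relIndex (DL.fix F.L.σ) ≤ dM l := by
    refine Nat.le_of_mul_le_mul_left ?_ (Nat.card_pos (α := T))
    rw [← h1, h2, h1, mul_comm]
    exact F.idx
  have h4 : F.L.ι.range.relIndex B ≤ F.L.ι.range.relIndex (DL.fix F.L.σ) :=
    Subgroup.relIndex_le_of_le_right hB Subgroup.index_ne_zero_of_finite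
  rw [← card_eq_mul_relIndex (inf_le_left : B ⊓ F.L.ι.range ≤ B), Subgroup.inf_relIndex_left, mul_comm]
  exact Nat.mul_le_mul_right _ (h4.trans h3)

theorem card_ID_le (hT : AS T) (X : Subgroup G) :
    Nat.card ↥(X ⊓ F.ID hT.normal) ≤ dM l * Nat.card ↥(X ⊓ T) := by
  have h1 : imD F hT.normal X ⊓ F.L.ι.range = DS.Nt.im F.L (X ⊓ T) := by
    apply le_antisymm
    · rintro y ⟨h1, h2⟩
      obtain ⟨c, h3, h4⟩ := (mem_imD hT.normal).1 h1
      have h5 := mem_T_of_ind hT h4 h2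
      exact ⟨⟨c, h5⟩, ⟨h3, h5⟩, ind_unique hT.normal (ind_iota ⟨c, h5⟩) h4⟩
    · rintro _ ⟨x, hx, rfl⟩
      exact ⟨(mem_imD hT.normal).2 ⟨x, hx.1, ind_iota x⟩, x, rfl⟩
  rw [← card_imD hT, ← DS.Nt.card_im (L := F.L) (inf_le_right : X ⊓ T ≤ T), ← h1]
  exact card_le_dM (imD_le_fix _ X)

end Theta

section Grp

variable {p : ℕ} {G : Type} [Group G] [Finite G] {T S : Subgroup G}

theorem nm_of_le {X : Subgroup G} (h : S ≤ Subgroup.normalizer (X : Set G)) : Nm S X :=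
  fun _ hs x hx => (Subgroup.mem_normalizer_iff.1 (h hs) x).1 hx

theorem setup (C : Ctx p T S) : DS.Setup T S where
  normal := C.as.normal
  simple := C.as.simple
  noncomm := C.as.nonab
  cent := C.as.cent
  not_le := C.as.not_le C.solv
  coatom := by
    refine ⟨fun h => C.as.not_le C.solv (h ▸ le_top), fun Y hY => ?_⟩
    by_cases h1 : T ≤ Y
    · rw [eq_top_iff, ← C.sup]
      exact sup_le h1 hY.le
    · refine absurd (fun y hy => ?_) hY.not_ge
      have hN := C.as.normal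
      have h2 : y ∈ ((T ⊔ S : Subgroup G) : Set G) := by
        rw [C.sup]
        trivial
      rw [Subgroup.normal_mul] at h2
      obtain ⟨t, ht, s, hs, rfl⟩ := h2
      have h3 : t ∈ Y := (Y.mul_mem_cancel_right (hY.le hs)).1 hy
      exact mul_mem (C.max.inf_le C.as.normal hY.le h1 ⟨h3, ht⟩) hs

theorem le_S_of_pgroup (C : Ctx p T S) {r : ℕ} (hr : r.Prime) {Q : Subgroup G} (hQ : Q ≤ T) (h : IsPGroup r Q)
    (hS : Nm S Q) : Q ≤ S := by
  have := Fact.mk hr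
  refine C.max.le_of_inv C.as hQ (fun e => C.as.not_solvable ?_) hS
  rw [← e]
  have := h.isNilpotent
  infer_instance

theorem le_fit {N : Subgroup G} (hN : N ≤ S) (hS : Nm S N) (h : Group.IsNilpotent N) : N ≤ fit S := by
  have h1 : N.subgroupOf S ≤ fittingSubgroup S := Lib.Cores.le_fittingSubgroup
    ⟨fun x hx s => hS s s.2 x hx⟩ (Group.nilpotent_of_mulEquiv (Subgroup.subgroupOfEquivOfLe hN).symm)
  rw [← Subgroup.map_subgroupOf_eq_of_le hN]
  exact Subgroup.map_mono h1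

theorem nm_fit : Nm S (fit S) := by
  rintro s hs _ ⟨v, hv, rfl⟩
  exact ⟨_, (Lib.Cores.fittingSubgroup_normal (G := S)).conj_mem v hv ⟨s, hs⟩, rfl⟩

theorem nm_fit_inf (hT : T.Normal) : Nm S (fit S ⊓ T) :=
  fun s hs x hx => ⟨nm_fit s hs x hx.1, hT.conj_mem _ hx.2 s⟩

theorem card_inf_le (C : Ctx p T S) : Nat.card ↥(S ⊓ T) ≤ Nat.card ↥(fit S ⊓ T) ^ 4 := by
  have := solvable_inf C.solv T
  refine card_le_fitting_pow.trans (Nat.pow_le_pow_left ?_ 4)
  rw [← card_fit]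
  exact Subgroup.card_le_of_le (le_inf (le_fit ((fit_le _).trans inf_le_left) (fit_inf_conj C.as.normal)
    (fit_nilpotent _)) ((fit_le _).trans inf_le_right))

theorem fit_cent (C : Ctx p T S) {E : Subgroup G} {r : ℕ} (hL : DS.Loc T S E r) :
    ∀ c ∈ fit S, ∀ x ∈ E, c * x = x * c := by
  have hES : E ≤ S := hL.norm ▸ Subgroup.le_normalizer
  obtain ⟨X, h1, h2, h3, -, -, -, -, h4⟩ := exists_min C.solv hL.ne_bot hES (nm_of_le hL.norm.ge)
  obtain rfl := (hL.min X h1 (le_normalizer_of_conj h3)).resolve_left h2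
  rintro _ ⟨v, hv, rfl⟩
  exact h4 v hv

theorem card_le_aut {E : Subgroup G} {r : ℕ} (hL : DS.Loc T S E r) :
    Nat.card ↥(S ⊓ T) ≤ Nat.card ↥(Subgroup.centralizer (E : Set G) ⊓ T) * Nat.card (MulAut E) := by
  let f : ↥(S ⊓ T) →* MulAut E := E.normalizerMonoidHom.comp (Subgroup.inclusion (inf_le_left.trans hL.norm.ge))
  rw [← f.ker.card_mul_index, Subgroup.index_ker]
  refine Nat.mul_le_mul ?_ (Subgroup.card_le_card_group _)
  refine Nat.card_le_card_of_injective (fun x : f.ker => (⟨x, Subgroup.mem_centralizer_iff.2 fun e he => ?_, x.1.2.2⟩ :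
    ↥(Subgroup.centralizer (E : Set G) ⊓ T))) fun x y h =>
      Subtype.ext (Subtype.ext (congrArg (fun z : ↥(Subgroup.centralizer (E : Set G) ⊓ T) => (z : G)) h))
  have h1 := congrArg (fun β : MulAut E => ((β ⟨e, he⟩ : E) : G)) (MonoidHom.mem_ker.1 x.2)
  exact (mul_inv_eq_iff_eq_mul.1 h1).symm

theorem exists_gens {E : Type*} [Group E] [Finite E] {r : ℕ} (hr : r.Prime) (h : IsPGroup r E) (n : ℕ) :
    ∀ K : Subgroup E, Nat.card E ≤ r ^ n * Nat.card K → ∃ v : Fin n → E, K ⊔ Subgroup.closure (Set.range v) = ⊤ := by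
  have := Fact.mk hr
  induction n with
  | zero =>
    intro K hK
    rw [pow_zero, one_mul] at hK
    exact ⟨Fin.elim0, by rw [Subgroup.eq_top_of_le_card K hK, top_sup_eq]⟩
  | succ n ih =>
    intro K hK
    by_cases h1 : K = ⊤
    · exact ⟨fun _ => 1, by rw [h1, top_sup_eq]⟩
    obtain ⟨x, hx⟩ : ∃ x, x ∉ K := by
      by_contra h2
      push Not at h2
      exact h1 ((Subgroup.eq_top_iff' K).2 h2)
    have h2 : r * Nat.card K ≤ Nat.card ↥(K ⊔ Subgroup.zpowers x) := by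
      obtain ⟨a, ha⟩ := IsPGroup.iff_card.1 (h.to_subgroup K)
      obtain ⟨b, hb⟩ := IsPGroup.iff_card.1 (h.to_subgroup (K ⊔ Subgroup.zpowers x))
      have h3 : Nat.card K < Nat.card ↥(K ⊔ Subgroup.zpowers x) := by
        by_contra h4
        exact hx ((Subgroup.eq_of_le_of_card_ge le_sup_left (not_lt.1 h4)).ge
          (Subgroup.mem_sup_right (Subgroup.mem_zpowers x)))
      rw [ha, hb] at h3 ⊢
      rw [← pow_succ']
      exact Nat.pow_le_pow_right hr.pos ((Nat.pow_lt_pow_iff_right hr.one_lt).1 h3)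
    obtain ⟨v, hv⟩ := ih (K ⊔ Subgroup.zpowers x) (hK.trans (by
      rw [pow_succ, mul_assoc]
      exact Nat.mul_le_mul_left _ h2))
    refine ⟨Fin.cons x v, eq_top_iff.2 (hv.ge.trans (sup_le (sup_le le_sup_left ?_) ?_))⟩
    · exact Subgroup.zpowers_le.2 (Subgroup.mem_sup_right (Subgroup.subset_closure (Set.mem_range.2 ⟨0, rfl⟩)))
    · exact (Subgroup.closure_mono (by
        rintro _ ⟨i, rfl⟩
        exact ⟨i.succ, rfl⟩)).trans le_sup_right

theorem card_mulAut_le {E : Type*} [Group E] [Finite E] {r : ℕ} (hr : r.Prime) (h : IsPGroup r E) {n : ℕ}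
    (hn : Nat.card E ≤ r ^ n) : Nat.card (MulAut E) ≤ (r ^ n) ^ n := by
  obtain ⟨v, hv⟩ := exists_gens hr h n ⊥ (by rwa [Subgroup.card_bot, mul_one])
  rw [bot_sup_eq] at hv
  have h1 := Nat.card_le_card_of_injective (fun β : MulAut E => fun i => β (v i)) fun β γ e =>
    MulEquiv.toMonoidHom_injective (MonoidHom.eq_of_eqOn_dense hv (by
      rintro _ ⟨i, rfl⟩
      exact congrFun e i))
  rw [Nat.card_fun, Nat.card_eq_fintype_card (α := Fin n), Fintype.card_fin] at h1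
  exact h1.trans (Nat.pow_le_pow_left hn n)

theorem isPGroup_of_prime {X : Type*} [Group X] [Finite X] {r : ℕ}
    (h : ∀ x : X, (orderOf x).Prime → orderOf x = r) : IsPGroup r X :=
  IsPGroup.of_card (Nat.eq_prime_pow_of_unique_prime_dvd (p := r) Nat.card_pos.ne' fun {s} hs hd => by
    have := Fact.mk hs
    obtain ⟨x, hx⟩ := exists_prime_orderOf_dvd_card' s hd
    rw [← hx]
    exact h x (by rwa [hx]))

end Grp

/-! ### arithmetic -/

theorem prod_scale {q₀ q : ℕ} (h : q₀ ≤ q) (L : List ℕ) :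
    (L.map fun d => q₀ ^ d - 1).prod * q ^ L.sum ≤ (L.map fun d => q ^ d - 1).prod * q₀ ^ L.sum := by
  induction L with
  | nil => exact le_rfl
  | cons d L ih =>
    have h1 : (q₀ ^ d - 1) * q ^ d ≤ (q ^ d - 1) * q₀ ^ d := by
      rw [Nat.sub_mul, Nat.sub_mul, one_mul, one_mul, mul_comm]
      exact Nat.sub_le_sub_left (Nat.pow_le_pow_left h d) _
    rw [List.map_cons, List.map_cons, List.prod_cons, List.prod_cons, List.sum_cons, pow_add, pow_add,
      mul_mul_mul_comm, mul_mul_mul_comm (q ^ d - 1)]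
    exact Nat.mul_le_mul h1 ih

theorem scale {l K a c q₀ q : ℕ} (h0 : 0 < q₀) (h : q₀ ≤ q) (hd : a + c ≤ nP l + (degs l).sum)
    (hK : K * (q₀ ^ a * (q₀ + 1) ^ c) ≤ ordU l q₀) : K * (q ^ a * (q + 1) ^ c) ≤ ordU l q := by
  obtain ⟨m, hm⟩ := Nat.exists_eq_add_of_le hd
  have h1 : ordU l q₀ * q ^ (nP l + (degs l).sum) ≤ ordU l q * q₀ ^ (nP l + (degs l).sum) := by
    unfold ordU
    have h2 := Nat.mul_le_mul_left (q₀ ^ nP l * q ^ nP l) (prod_scale h (degs l))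
    rw [pow_add, pow_add]
    calc _ = _ := by ring
      _ ≤ _ := h2
      _ = _ := by ring
  have h2 : (q + 1) ^ c * q₀ ^ c ≤ (q₀ + 1) ^ c * q ^ c := by
    rw [← mul_pow, ← mul_pow]
    exact Nat.pow_le_pow_left (by nlinarith) c
  have h3 : q₀ ^ m ≤ q ^ m := Nat.pow_le_pow_left h m
  refine Nat.le_of_mul_le_mul_right (le_trans ?_ h1) (pow_pos h0 _)
  rw [hm]
  calc K * (q ^ a * (q + 1) ^ c) * q₀ ^ (a + c + m) = K * q ^ a * q₀ ^ a * ((q + 1) ^ c * q₀ ^ c) * q₀ ^ m := by ring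
    _ ≤ K * q ^ a * q₀ ^ a * ((q₀ + 1) ^ c * q ^ c) * q ^ m := Nat.mul_le_mul (Nat.mul_le_mul_left _ h2) h3
    _ = K * (q₀ ^ a * (q₀ + 1) ^ c) * q ^ (a + c + m) := by ring
    _ ≤ _ := Nat.mul_le_mul_right _ hK

/-- the numerical conditions of `crit` -/
structure Num (l f r j b a c q₀ q₁ mI mG mO : ℕ) : Prop where
  pos : 0 < q₀ ∧ 0 < q₁ ∧ 0 < mI ∧ 0 < mG ∧ 0 < mO
  deg : a + c ≤ nP l + (degs l).sum ∧ nP l + (l + 3) / 2 ≤ nP l + (degs l).sum
  hI : mI * dM l * b * (q₀ ^ a * (q₀ + 1) ^ c) ≤ ordU l q₀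
  hO : mO * dM l * r * q₀ ≤ ordU l q₀
  hO' : mO * dM l * 2 ^ l * q₁ ^ (nP l + (l + 3) / 2) ≤ ordU l q₁
  sum : r * (f * mG * mO + 2 ^ j * mI * mO + f * mI * mG) ≤ mI * mG * mO

/-- **`BoxCrit` from inequalities for the smallest `q`.** -/
theorem crit (hC : BoxCrit) {D : ChevalleyDatum} {l : ℕ} {M : CoxeterMatrix (Fin l)} {hp : IsType D l M} (hD : Typ D)
    {p : ℕ} [Fact p.Prime] {G : Type} [Group G] [Finite G] {T S : Subgroup G} (C : Ctx p T S) {q : ℕ}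
    (F : XF hp p q T) {f r j b a c q₀ q₁ mI mG mO : ℕ} (N : Num l f r j b a c q₀ q₁ mI mG mO) (h0 : q₀ ≤ q)
    (h1 : q ≠ p → q₁ ≤ q) (hf : Nat.card ↥(fit S ⊓ F.ID C.as.normal) ≤ f) (hr : Nat.card ↥(S ⊓ T) ≤ r)
    (hb : ∀ c' ∈ fit S, ∀ y, F.Ind y c' → (orderOf y).Prime → orderOf y ≠ p →
      Nat.card ↥(DL.fix F.L.σ ⊓ Subgroup.centralizer {y}) ≤ b * (q ^ a * (q + 1) ^ c))
    (hj : D = chevE6 → p ≠ 2 → (∀ X : Subgroup G, X ≤ S ⊓ T → IsPGroup 2 X → Nm S X → Nat.card X ≤ 2 ^ j) ∧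
      mG ^ (j + 1) * (3 * r) ≤ ordU l 3) : FitReg T S := by
  obtain ⟨a1, a2, a3, a4, a5⟩ := N.pos
  have hq : 0 < q := a1.trans_le h0
  refine hC D l M hp hD p G T S C q F f r _ j mI mG (mO * q) a3 a4 (Nat.mul_pos a5 hq) hf hr hb ?_
    (fun e h2 => ⟨(hj e h2).1, ?_⟩) ?_ (fun h2 => ?_) ?_
  · have h2 := scale a1 h0 N.deg.1 N.hI
    calc _ = _ := by ring
      _ ≤ _ := h2
  · have h3 : 3 ≤ q := by
      have h4 := (Fact.out : p.Prime).two_le
      rw [← F.m.hq]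
      exact le_trans (by omega) (Nat.le_self_pow F.m.he.ne' p)
    have h4 := scale (l := l) (K := mG ^ (j + 1) * (3 * r)) (a := 0) (c := 0) (by norm_num) h3 (Nat.zero_le _)
      (by simpa using (hj e h2).2)
    simpa using h4
  · have h2 := scale (l := l) (K := mO * dM l * r) (a := 1) (c := 0) a1 h0 (by
      have h3 := N.deg.2
      omega) (by simpa using N.hO)
    calc _ = _ := by ring
      _ ≤ _ := h2
  · have h3 := scale (l := l) (K := mO * dM l * 2 ^ l) (a := nP l + (l + 3) / 2) (c := 0) a2 (h1 h2) N.deg.2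
      (by simpa using N.hO')
    refine le_trans ?_ (Nat.pow_le_pow_left h3 2)
    have h4 : q ^ (2 * nP l + l + 2) ≤ q ^ (2 * (nP l + (l + 3) / 2)) := Nat.pow_le_pow_right hq (by omega)
    calc (mO * q * dM l) ^ 2 * (4 ^ l * q ^ (2 * nP l + l)) = (mO * dM l * 2 ^ l) ^ 2 * q ^ (2 * nP l + l + 2) := by
          rw [show 4 = 2 * 2 from rfl, mul_pow 2 2 l]
          ring
      _ ≤ (mO * dM l * 2 ^ l) ^ 2 * q ^ (2 * (nP l + (l + 3) / 2)) := Nat.mul_le_mul_left _ h4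
      _ = _ := by ring
  · have b1 : (0 : ℚ) < mI := by exact_mod_cast a3
    have b2 : (0 : ℚ) < mG := by exact_mod_cast a4
    have b3 : (0 : ℚ) < mO := by exact_mod_cast a5
    have b4 : (0 : ℚ) < q := by exact_mod_cast hq
    have b5 : (r : ℚ) * (f * mG * mO + 2 ^ j * mI * mO + f * mI * mG) ≤ mI * mG * mO := by exact_mod_cast N.sum
    have e : (r : ℚ) * (f / mI + 2 ^ j / mG + q * f / ((mO * q : ℕ) : ℚ)) =
        (r * (f * mG * mO + 2 ^ j * mI * mO + f * mI * mG)) / (mI * mG * mO) := by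
      push_cast
      field_simp
    rw [e, div_le_one (by positivity)]
    exact b5

theorem ntCtx {D : ChevalleyDatum} {l : ℕ} {M : CoxeterMatrix (Fin l)} {hp : IsType D l M} (hD : Typ D)
    {p : ℕ} [Fact p.Prime] {G : Type} [Group G] [Finite G] {T S : Subgroup G} (C : Ctx p T S) {q : ℕ}
    (F : XF hp p q T) (hA : ∀ A₀ : Subgroup (YY D p), Toral p A₀ → F.L.Inv S A₀ → A₀ = ⊥) : DS.Nt.Ctx F.L S where
  typ := hD
  setup := setup C
  fr := ⟨F.m.g, by rw [F.hσ]; exact F.m.fr⟩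
  noP Q h1 h2 h3 := C.npar Q (le_inf (le_S_of_pgroup C Fact.out h1 h2 (nm_of_le h3)) h1) h2 (nm_of_le h3)
  noT := hA

end Cfsg.Agent.SB.Exc.NT
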