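import Cfsg.Agent.DS.Nt.Main

/-!
# S5765, exceptional groups, no invariant toral subgroup: order bounds in the algebraic group (helper86)

* `sum_eq_zero`, `pow_of_sum`, `card_fix_three` : fixed points of an elliptic element of prime order on the torus;
* `exists_rp`, `cen_bound` : the centraliser of `E` when a toral subgroup of index `r` has no roots;
* `ea_of_el`, `f4_mul`, `e7_inv`, `card_le_81`.
-/

set_option autoImplicit false
set_option linter.unusedSectionVars false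

namespace Cfsg.Agent.SB.Exc.NT

open CoxeterSystem Cfsg Cfsg.Lie Cfsg.Lie.ChevalleyDatum
open Cfsg.Agent.ChevalleyStructure Cfsg.Agent.ChevalleyStructure.Elts Cfsg.Agent.ChevalleyStructure.CoxeterGeom
  Cfsg.Agent.ChevalleyStructure.CoxeterGeomTypes
open Cfsg.Agent.Tits.Roots Cfsg.Agent.Tits.Core Cfsg.Agent.Nodes Cfsg.Agent.Nodes.Reps Cfsg.Agent.Nodes.BNOf
  Cfsg.Agent.Nodes.RGDChev Cfsg.Agent.Nodes.Bruhat
open Cfsg.Agent.KFacts.RgdField Cfsg.Agent.KFacts.RgdChevCoord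
open Cfsg.Agent.BpExc Cfsg.Agent.BpExc.TorCent Cfsg.Agent.BpExc.TorChev Cfsg.Agent.BpExc.Tow
  Cfsg.Agent.BpExc.TowChev Cfsg.Agent.BpExc.Fr Cfsg.Agent.BpExc.LangFr
open Cfsg.Agent.H469.Exc Cfsg.Agent.H795.SetCent Cfsg.Agent.H129.TorusChar Cfsg.Agent.DS.Ex
open Cfsg.Agent.H185.EE Cfsg.Agent.H931.KC Cfsg.Agent.DS Cfsg.Agent.DS.Nt

variable {D : ChevalleyDatum} {l : ℕ} {M : CoxeterMatrix (Fin l)} {hp : IsType D l M} {p : ℕ} [Fact p.Prime]

/-! ### elliptic elements -/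

theorem sum_eq_zero (hD : Typ D) {r : ℕ} {w : M.Group} {k : YY D p} (hk : RP hp p w k) (hw : w ^ r = 1)
    (h0 : ∀ s : ℕ, s.Prime → r < s → ∀ u ∈ TT D (KK p), k * u = u * k → u ^ s = 1 → u = 1) :
    ∑ i ∈ Finset.range r, rep M.toCoxeterSystem hp.isCartan w ^ i = 0 := by
  obtain ⟨N, hN⟩ : ∃ N, N = ∑ i ∈ Finset.range r, rep M.toCoxeterSystem hp.isCartan w ^ i := ⟨_, rfl⟩
  have h1 : N * rep M.toCoxeterSystem hp.isCartan w = N := by
    have h2 := geom_sum_mul (rep M.toCoxeterSystem hp.isCartan w) r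
    rwa [← hN, ← map_pow, hw, map_one, sub_self, mul_sub, mul_one, sub_eq_zero] at h2
  rw [← hN]
  refine LinearMap.ext fun x => funext fun i => ?_
  by_contra h2
  obtain ⟨s, hs, hs'⟩ := Nat.exists_infinite_primes (r + p + (N x i).natAbs + 1)
  obtain ⟨ζ, hζ⟩ := exists_prim (p := p) hs' (by omega)
  obtain ⟨t, ht, h3⟩ := exists_tor_zpow hp hD (hζ.ne_zero hs'.ne_zero)
    ((Pi.evalAddMonoidHom (fun _ : Fin l => ℤ) i).comp N.toAddMonoidHom)
  have h4 : ∀ y, cX hp t y = ζ ^ N y i := h3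
  have h5 := h0 s hs' (by omega) t ht (hk.comm ht fun y => by rw [h4, h4, ← Module.End.mul_apply, h1])
    (pow_eq_one_of_cX (hp := hp) ht fun y => by
      rw [h4, ← zpow_natCast, ← zpow_mul, mul_comm, zpow_mul, zpow_natCast, hζ.pow_eq_one, one_zpow])
  have h6 := h4 x
  rw [h5, cX_one, eq_comm, hζ.zpow_eq_one_iff_dvd] at h6
  have h7 := Int.natAbs_le_of_dvd_ne_zero h6 h2
  rw [Int.natAbs_natCast] at h7
  omega

theorem pow_of_sum {r : ℕ} {w : M.Group} {k : YY D p} (hk : RP hp p w k)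
    (hN : ∑ i ∈ Finset.range r, rep M.toCoxeterSystem hp.isCartan w ^ i = 0) {t : YY D p} (ht : t ∈ TT D (KK p))
    (h : k * t = t * k) : t ^ r = 1 := by
  refine pow_eq_one_of_cX (hp := hp) ht fun x => ?_
  have h1 : ∀ i : ℕ, cX hp t ((rep M.toCoxeterSystem hp.isCartan w ^ i) x) = cX hp t x := by
    intro i
    induction i with
    | zero => rw [pow_zero, Module.End.one_apply]
    | succ i ih => rw [pow_succ', Module.End.mul_apply, hk.cX_of_comm ht h, ih]
  have h2 := (isMC_cX hp ht).sum (Finset.range r) fun i => (rep M.toCoxeterSystem hp.isCartan w ^ i) x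
  rw [← LinearMap.sum_apply, hN, LinearMap.zero_apply, (isMC_cX hp ht).zero, Finset.prod_congr rfl fun i _ => h1 i,
    Finset.prod_const, Finset.card_range] at h2
  exact h2.symm

variable (hp p) in
/-- the elements of order dividing `r` of the torus -/
def Tr (r : ℕ) : Subgroup (YY D p) where
  carrier := {t | t ∈ TT D (KK p) ∧ t ^ r = 1}
  one_mem' := ⟨one_mem _, one_pow _⟩
  mul_mem' := by
    rintro a b ⟨h1, h2⟩ ⟨h3, h4⟩
    exact ⟨mul_mem h1 h3, by rw [(show Commute a b from TT_comm hp _ h1 _ h3).mul_pow, h2, h4, one_mul]⟩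
  inv_mem' := by
    rintro a ⟨h1, h2⟩
    exact ⟨inv_mem h1, by rw [inv_pow, h2, inv_one]⟩

theorem card_sub_Tr {r : ℕ} (hr : 0 < r) {Q : Subgroup (YY D p)} (hQ : Q ≤ Tr hp p r) : Nat.card Q ≤ r ^ l :=
  Rank.card_toral_le hp hr Q 1 (fun x hx => by rw [one_mul, inv_one, mul_one]; exact (hQ hx).1) fun x hx => (hQ hx).2

theorem finite_Tr {r : ℕ} (hr : 0 < r) : Finite (Tr hp p r) :=
  finite_of_bound hr (fun _ hx _ hy => TT_comm hp _ hx.1 _ hy.1) (fun _ hx => hx.2) fun _ hQ _ => card_sub_Tr hr hQ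

theorem IsMC.comp' {k : Type*} [Field k] {φ : (Fin l → ℤ) → k} (h : IsMC φ) (α : Module.End ℤ (Fin l → ℤ)) :
    IsMC fun x => φ (α x) :=
  ⟨by show φ (α 0) = 1; rw [map_zero, h.zero], fun x y => by show φ (α (x + y)) = _; rw [map_add, h.add]⟩

theorem card_fix_three (hD : Typ D) {w : M.Group} {k : YY D p} (hk : RP hp p w k)
    (hN : ∑ i ∈ Finset.range 3, rep M.toCoxeterSystem hp.isCartan w ^ i = 0) :
    Nat.card ↥(TT D (KK p) ⊓ Subgroup.centralizer {k}) ^ 2 ≤ 3 ^ l := by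
  obtain ⟨W, hW⟩ : ∃ W, W = rep M.toCoxeterSystem hp.isCartan w := ⟨_, rfl⟩
  have hB : ∀ u : ↥(TT D (KK p) ⊓ Subgroup.centralizer {k}), k * u = u * k := fun u =>
    (Subgroup.mem_centralizer_singleton_iff.1 u.2.2).symm
  have hfix : ∀ (u : ↥(TT D (KK p) ⊓ Subgroup.centralizer {k})) x, cX hp (u : YY D p) (x - W x) = 1 := fun u x => by
    rw [(isMC_cX hp u.2.1).sub, hW, hk.cX_of_comm u.2.1 (hB u), div_self ((isMC_cX hp u.2.1).ne_zero x)]
  have h1 : ∀ x, W (W x) = -x - W x := fun x => by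
    have h2 := LinearMap.congr_fun hN x
    rw [← hW, Finset.sum_range_succ, Finset.sum_range_succ, Finset.sum_range_one, pow_zero, pow_one, pow_two,
      LinearMap.add_apply, LinearMap.add_apply, Module.End.one_apply, Module.End.mul_apply, LinearMap.zero_apply] at h2
    linear_combination (exp := 1) h2
  have hex : ∀ u : ↥(TT D (KK p) ⊓ Subgroup.centralizer {k}), ∃ s ∈ Tr hp p 3, ∀ x,
      cX hp s (x - W x) = cX hp (u : YY D p) x := by
    intro u
    obtain ⟨a, ha, h2⟩ := exists_root_T hp hD u.2.1 (n := 3) (by norm_num)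
    obtain ⟨s, hs, h3⟩ := exists_tor hp hD (IsMC.comp' (isMC_cX hp ha) (1 + 1 + W))
    have h4 : ∀ x, cX hp s x = cX hp a (x + x + W x) := h3
    have h5 : ∀ x, cX hp a (3 • x) = cX hp (u : YY D p) x := fun x => by
      rw [(isMC_cX hp ha).nsmul, ← cX_pow hp ha, h2]
    refine ⟨s, ⟨hs, pow_eq_one_of_cX (hp := hp) hs fun x => ?_⟩, fun x => ?_⟩
    · rw [h4, ← (isMC_cX hp ha).nsmul, h5, ← hfix u (x + W x)]
      congr 1
      rw [map_add, h1]
      abel
    · rw [h4, ← h5]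
      congr 1
      rw [map_sub, h1]
      simp only [three_nsmul]
      abel
  choose s hs hs' using hex
  have := finite_Tr (hp := hp) (p := p) (r := 3) (by norm_num)
  have h2 := Nat.card_le_card_of_injective (fun x : ↥(TT D (KK p) ⊓ Subgroup.centralizer {k}) ×
    ↥(TT D (KK p) ⊓ Subgroup.centralizer {k}) => (⟨s x.1 * x.2, mul_mem (hs x.1)
      ⟨x.2.2.1, pow_of_sum hk hN x.2.2.1 (hB x.2)⟩⟩ : Tr hp p 3)) (by
    rintro ⟨u, v⟩ ⟨u', v'⟩ h
    have h3 : s u * v = s u' * v' := congrArg Subtype.val h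
    obtain rfl : u = u' := Subtype.ext (cX_inj hp u.2.1 u'.2.1 fun i => by
      have h4 := congrArg (fun y => cX hp y (sr i - W (sr i))) h3
      rwa [cX_mul hp (hs u).1 v.2.1, cX_mul hp (hs u').1 v'.2.1, hfix, hfix, hs', hs', mul_one, mul_one] at h4)
    rw [Subtype.ext (mul_left_cancel h3)])
  rw [Nat.card_prod, ← pow_two] at h2
  exact h2.trans (card_sub_Tr (by norm_num) le_rfl)

/-! ### the centraliser of `E` -/

theorem exists_hom_T (hp : IsType D l M) {r : ℕ} {A : Subgroup (YY D p)} (h : EL p r A) {g : YY D p}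
    (hg : ∀ a ∈ A, g * a * g⁻¹ ∈ TT D (KK p)) (hF : Module.finrank (KK p) (Fx p (A : Set (YY D p))) = l) :
    ∃ (P : Subgroup M.Group) (f : Subgroup.centralizer (A : Set (YY D p)) →* P), IsPGroup r P ∧
      ∀ x, RP hp p (f x : M.Group) (g * x * g⁻¹) := by
  have := finW hp
  have := h.fin
  have hPs := Ps_empty hp hg hF
  have hMz : Mz hp p (cS g A) ≤ ⊥ := Mz_le fun a ha => absurd ha (hPs a)
  have hex : ∀ c : Subgroup.centralizer (A : Set (YY D p)),
      ∃ w : PPZ M.toCoxeterSystem hp.isCartan (ch hp) (cS g A), RP hp p w (g * c * g⁻¹) := fun c => by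
    obtain ⟨m, hm, w, hw, k, h1, -, h2⟩ := form hp (cS_finite g A) (cS_sub hg) (c := g * c * g⁻¹)
      (cS_comm fun a ha => (Subgroup.mem_centralizer_iff.1 c.2 a ha).symm)
    rw [Subgroup.mem_bot.1 (hMz hm), one_mul] at h2
    exact ⟨⟨w, hw⟩, by rw [h2]; exact h1⟩
  choose f hf using hex
  refine ⟨_, MonoidHom.mk' f fun a b => Subtype.ext ((hf (a * b)).unique ?_), fun w => ?_, hf⟩
  · have h1 := (hf a).mul (hf b)
    have e : g * (a : YY D p) * g⁻¹ * (g * b * g⁻¹) = g * ((a * b : Subgroup.centralizer (A : Set (YY D p))) : YY D p) * g⁻¹ := by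
      rw [Subgroup.coe_mul]
      group
    rwa [e] at h1
  · obtain ⟨n, hn⟩ := pp_pow (cS_sub hg) h.prime (cS_pow h.pow) w.2
    exact ⟨n, Subtype.ext hn⟩

/-- the elements of order prime to `r` of the centraliser form a toral subgroup -/
theorem exists_rp (hp : IsType D l M) {r : ℕ} {E A : Subgroup (YY D p)} (h : EL p r A) (hA : A ≤ E) (hT : Toral p A)
    (hF : Module.finrank (KK p) (Fx p (A : Set (YY D p))) = l) : ∃ B : Subgroup (YY D p), Toral p B ∧
      ∀ x, x ∈ B ↔ (∀ e ∈ E, x * e = e * x) ∧ ∃ n : ℕ, r.Coprime n ∧ x ^ n = 1 := by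
  obtain ⟨g, hg⟩ := hT
  obtain ⟨P, f, hP, hf⟩ := exists_hom_T hp h hg hF
  have key : ∀ x : YY D p, (∀ e ∈ E, x * e = e * x) → (∃ n : ℕ, r.Coprime n ∧ x ^ n = 1) → g * x * g⁻¹ ∈ TT D (KK p) := by
    rintro x h1 ⟨n, h2, h3⟩
    have h4 : x ∈ Subgroup.centralizer (A : Set (YY D p)) :=
      Subgroup.mem_centralizer_iff.2 fun a ha => (h1 a (hA ha)).symm
    obtain ⟨j, hj⟩ := hP (f ⟨x, h4⟩)
    have h5 : f ⟨x, h4⟩ ∈ (⊥ : Subgroup P) := mem_of_pow_coprime (a := r ^ j) (b := n) (Subgroup.mem_bot.2 hj)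
      (by rw [← map_pow, show (⟨x, h4⟩ : Subgroup.centralizer (A : Set (YY D p))) ^ n = 1 from Subtype.ext h3, map_one]
          exact one_mem _) (h2.pow_left j)
    have h6 := hf ⟨x, h4⟩
    rw [Subgroup.mem_bot.1 h5] at h6
    exact h6.mem_T
  refine ⟨{ carrier := {x | (∀ e ∈ E, x * e = e * x) ∧ ∃ n : ℕ, r.Coprime n ∧ x ^ n = 1}
            one_mem' := ⟨fun e _ => by rw [one_mul, mul_one], 1, Nat.coprime_one_right r, one_pow 1⟩
            mul_mem' := ?_
            inv_mem' := ?_ }, ⟨g, fun a ha => key a ha.1 ha.2⟩, fun _ => Iff.rfl⟩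
  · rintro a b ⟨h1, n, h2, h3⟩ ⟨h4, m, h5, h6⟩
    refine ⟨fun e he => by rw [mul_assoc, h4 e he, ← mul_assoc, h1 e he, mul_assoc], n * m, h2.mul_right h5, ?_⟩
    have h7 := comm_of_conj (TT_comm hp _ (key a h1 ⟨n, h2, h3⟩) _ (key b h4 ⟨m, h5, h6⟩))
    have e : g⁻¹ * (g * a * g⁻¹) * g = a := by group
    rw [e] at h7
    rw [(show Commute a b from h7).mul_pow, pow_mul, h3, one_pow, mul_comm n, pow_mul, h6, one_pow, one_mul]
  · rintro a ⟨h1, n, h2, h3⟩
    exact ⟨fun e he => (show Commute a e from h1 e he).inv_left, n, h2, by rw [inv_pow, h3, inv_one]⟩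

theorem cen_bound (hp : IsType D l M) (hD : Typ D) {r : ℕ} {E A : Subgroup (YY D p)} (hE : EA p r E) (hA : A ≤ E)
    (hT : Toral p A) (hF : Module.finrank (KK p) (Fx p (A : Set (YY D p))) = l) (hn : ¬ Toral p E)
    (hc : Nat.card E ≤ r * Nat.card A)
    (h0 : ∀ x : YY D p, (∀ e ∈ E, x * e = e * x) → ∀ n : ℕ, r.Coprime n → x ^ n = 1 → x = 1) {j : ℕ}
    (hW : ¬ r ^ (j + 1) ∣ Nat.card M.Group) : Finite (Subgroup.centralizer (E : Set (YY D p))) ∧
      ∃ b, Nat.card (Subgroup.centralizer (E : Set (YY D p))) ≤ b * r ^ j ∧ b ≤ r ^ l ∧ (r = 3 → b ^ 2 ≤ 3 ^ l) := by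
  have := finW hp
  have := hE.fin
  have := Fact.mk hE.prime
  obtain ⟨g, hg⟩ := hT
  obtain ⟨P, f, hP, hf⟩ := exists_hom_T hp (hE.mono hA).el hg hF
  obtain ⟨e, he, he'⟩ : ∃ e ∈ E, g * e * g⁻¹ ∉ TT D (KK p) := by
    by_contra h1
    push Not at h1
    exact hn ⟨g, h1⟩
  have hle : A ⊔ Subgroup.zpowers e ≤ E := sup_le hA (Subgroup.zpowers_le.2 he)
  have hgen : A ⊔ Subgroup.zpowers e = E := by
    refine Subgroup.eq_of_le_of_card_ge hle (hc.trans ?_)
    have := (hE.mono hle).fin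
    obtain ⟨a, ha⟩ := (hE.mono hA).el.exists_card
    obtain ⟨b, hb⟩ := (hE.mono hle).el.exists_card
    have h3 : Nat.card A < Nat.card ↥(A ⊔ Subgroup.zpowers e) := by
      by_contra h4
      exact he' (hg e ((Subgroup.eq_of_le_of_card_ge le_sup_left (not_lt.1 h4)).ge
        (Subgroup.mem_sup_right (Subgroup.mem_zpowers e))))
    rw [ha, hb] at h3 ⊢
    rw [← pow_succ']
    exact Nat.pow_le_pow_right hE.prime.pos ((Nat.pow_lt_pow_iff_right hE.prime.one_lt).1 h3)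
  have heA : e ∈ Subgroup.centralizer (A : Set (YY D p)) :=
    Subgroup.mem_centralizer_iff.2 fun a ha => hE.comm a (hA ha) e he
  have hk := hf ⟨e, heA⟩
  have hN := sum_eq_zero hD hk (r := r) (by
    rw [← Subgroup.coe_pow, ← map_pow,
      show (⟨e, heA⟩ : Subgroup.centralizer (A : Set (YY D p))) ^ r = 1 from Subtype.ext (hE.pow e he), map_one,
      Subgroup.coe_one]) fun s hs hrs u hu h1 h2 => by
    have h3 : E ≤ Subgroup.centralizer {g⁻¹ * u * g} := by
      rw [← hgen]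
      exact sup_le (fun a ha => Subgroup.mem_centralizer_singleton_iff.2
        (comm_of_conj (TT_comm hp _ hu _ (hg a ha))).symm)
        (Subgroup.zpowers_le.2 (Subgroup.mem_centralizer_singleton_iff.2 (comm_of_conj h1.symm).symm))
    have h4 := h0 (g⁻¹ * u * g) (fun x hx => (Subgroup.mem_centralizer_singleton_iff.1 (h3 hx)).symm) s
      ((Nat.coprime_primes hE.prime hs).2 hrs.ne) (by
        have h5 := conj_pow (a := g⁻¹) (b := u) (i := s)
        rw [inv_inv] at h5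
        rw [h5, h2, mul_one, inv_mul_cancel])
    rw [mul_assoc, inv_mul_eq_one, eq_comm, mul_eq_right] at h4
    exact h4
  have hB : TT D (KK p) ⊓ Subgroup.centralizer {g * e * g⁻¹} ≤ Tr hp p r := fun t ht =>
    ⟨ht.1, pow_of_sum hk hN ht.1 (Subgroup.mem_centralizer_singleton_iff.1 ht.2).symm⟩
  have := finite_Tr (hp := hp) (p := p) hE.prime.pos
  have : Finite ↥(TT D (KK p) ⊓ Subgroup.centralizer {g * e * g⁻¹}) :=
    Finite.of_injective _ (Subgroup.inclusion_injective hB)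
  let f' := f.comp (Subgroup.inclusion (Subgroup.centralizer_le (show (A : Set (YY D p)) ⊆ E from hA)))
  have hker : ∀ x : f'.ker, g * ((x : Subgroup.centralizer (E : Set (YY D p))) : YY D p) * g⁻¹ ∈
      TT D (KK p) ⊓ Subgroup.centralizer {g * e * g⁻¹} := fun x => by
    have h1 := hf (Subgroup.inclusion (Subgroup.centralizer_le (show (A : Set (YY D p)) ⊆ E from hA)) x)
    rw [show f _ = 1 from x.2] at h1
    exact ⟨h1.mem_T, Subgroup.mem_centralizer_singleton_iff.2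
      (conj_comm (Subgroup.mem_centralizer_iff.1 x.1.2 e he).symm)⟩
  have hinj : Function.Injective fun x : f'.ker =>
      (⟨_, hker x⟩ : ↥(TT D (KK p) ⊓ Subgroup.centralizer {g * e * g⁻¹})) := fun x y h =>
    Subtype.ext (Subtype.ext (mul_left_cancel (mul_right_cancel (congrArg Subtype.val h))))
  have hfin : Finite (Subgroup.centralizer (E : Set (YY D p))) :=
    f'.finite_iff_finite_ker_range.2 ⟨Finite.of_injective _ hinj, inferInstance⟩
  refine ⟨hfin, _, ?_, card_sub_Tr hE.prime.pos hB, ?_⟩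
  · rw [← f'.ker.card_mul_index, Subgroup.index_ker]
    refine Nat.mul_le_mul (Nat.card_le_card_of_injective _ hinj) ((Subgroup.card_le_card_group _).trans ?_)
    obtain ⟨n, hn⟩ := IsPGroup.iff_card.1 hP
    rw [hn]
    refine Nat.pow_le_pow_right hE.prime.pos ?_
    by_contra h1
    exact hW ((pow_dvd_pow r (by omega)).trans (hn ▸ P.card_subgroup_dvd_card))
  · rintro rfl
    exact card_fix_three hD hk hN

/-! ### classes -/

theorem ea_of_el (hp : IsType D l M) (hD : Typ D) {r : ℕ} {A : Subgroup (YY D p)} (h : EL p r A)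
    (h6 : ¬ (D = chevE6 ∧ r = 3)) (h7 : ¬ (D = chevE7 ∧ r = 2)) : EA p r A :=
  ⟨h.prime, h.ne, h.fin, h.comm, h.pow, fun x hx y hy => by
    obtain ⟨K, h1, -, h2 | h2 | h2⟩ := exists_DD hp hD h.prime h.ne (h.pow x hx)
    · exact (h1 y (h.comm y hy x hx) ⟨1, by rw [pow_one, h.pow y hy]⟩).2 (h2 y (h.comm y hy x hx))
    · exact absurd ⟨h2.1, h2.2.1⟩ h6
    · exact absurd ⟨h2.1, h2.2.1⟩ h7⟩

/-- the number of roots of `F₄` trivial on the involution with the coordinates `a, b, c, d` -/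
def n4 (a b c d : ℤ) : ℕ := (Finset.univ.filter fun s : Fin chevF4.nroots =>
  ((2 : ℕ) : ℤ) ∣ vec chevF4 4 s 0 * a + vec chevF4 4 s 1 * b + vec chevF4 4 s 2 * c + vec chevF4 4 s 3 * d).card

theorem tab4 : ∀ a b c d : Fin 2, (n4 (a : ℕ) (b : ℕ) (c : ℕ) (d : ℕ) = 32 → c = 0 ∧ d = 0) ∧
    (n4 (a : ℕ) (b : ℕ) (c : ℕ) (d : ℕ) = 20 → ¬ (c = 0 ∧ d = 0)) := by decide +kernel

theorem f4_tor {M : CoxeterMatrix (Fin 4)} (hp : IsType chevF4 4 M) (h2 : 2 ≠ p) {x : YY chevF4 p}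
    (hx : x ∈ TT chevF4 (KK p)) (hx2 : x ^ 2 = 1) :
    (dd p x = 36 → cX hp x (sr 2) = 1 ∧ cX hp x (sr 3) = 1) ∧
      (dd p x = 24 → ¬ (cX hp x (sr 2) = 1 ∧ cX hp x (sr 3) = 1)) := by
  obtain ⟨ζ, hζ⟩ := exists_prim (p := p) Nat.prime_two h2
  obtain ⟨b, hb, e⟩ := J2.exists_bits (hp := hp) hζ hx hx2
  have h0 : dd p x = 4 + n4 (b 0) (b 1) (b 2) (b 3) := by
    rw [dd_tor_zpow hp hx hζ e]
    congr 1
    unfold n4
    exact congrArg Finset.card (Finset.filter_congr fun s _ => by rw [psi_apply, Fin.sum_univ_four])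
  have h1 : ∀ i, cX hp x (sr i) = 1 ↔ (⟨b i, hb i⟩ : Fin 2) = 0 := fun i => by
    have h3 := hb i
    rw [e, psi_sr, hζ.zpow_eq_one_iff_dvd, Fin.ext_iff]
    show ((2 : ℕ) : ℤ) ∣ (b i : ℤ) ↔ b i = 0
    omega
  have h3 := tab4 ⟨b 0, hb 0⟩ ⟨b 1, hb 1⟩ ⟨b 2, hb 2⟩ ⟨b 3, hb 3⟩
  rw [h0, h1, h1]
  exact ⟨fun h => h3.1 (by dsimp only; omega), fun h => h3.2 (by dsimp only; omega)⟩

theorem f4_mul {M : CoxeterMatrix (Fin 4)} (hp : IsType chevF4 4 M) (h2 : 2 ≠ p) {x y : YY chevF4 p} (h : Tp p x y)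
    (hx2 : x ^ 2 = 1) (hy2 : y ^ 2 = 1) (hx : dd p x = 36) (hy : dd p y = 36) : dd p (x * y) ≠ 24 := by
  obtain ⟨g, h3, h4⟩ := h
  have e1 : (g * x * g⁻¹) ^ 2 = 1 := by rw [conj_pow, hx2, mul_one, mul_inv_cancel]
  have e2 : (g * y * g⁻¹) ^ 2 = 1 := by rw [conj_pow, hy2, mul_one, mul_inv_cancel]
  have e3 : g * (x * y) * g⁻¹ = (g * x * g⁻¹) * (g * y * g⁻¹) := by group
  intro h5
  rw [← dd_conj g, e3] at h5
  have a1 := (f4_tor hp h2 h3 e1).1 (by rw [dd_conj, hx])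
  have a2 := (f4_tor hp h2 h4 e2).1 (by rw [dd_conj, hy])
  refine (f4_tor hp h2 (mul_mem h3 h4) ?_).2 h5 ⟨?_, ?_⟩
  · rw [(show Commute _ _ from TT_comm hp _ h3 _ h4).mul_pow, e1, e2, one_mul]
  · rw [cX_mul hp h3 h4, a1.1, a2.1, one_mul]
  · rw [cX_mul hp h3 h4, a1.2, a2.2, one_mul]

theorem tab7' : ∀ c : Fin 128, n7 c = 56 ∨ n7 c = 62 ∨ n7 c = 72 ∨ ∀ i : Fin 7, J2.bt c i = 0 := by decide +kernel

theorem e7_inv {M : CoxeterMatrix (Fin 7)} (hp : IsType chevE7 7 M) (h2 : 2 ≠ p) {x : YY chevE7 p} (hx2 : x ^ 2 = 1)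
    (hx1 : x ≠ 1) : dd p x = 63 ∨ dd p x = 69 ∨ dd p x = 79 := by
  obtain ⟨g, hg⟩ := exists_conj_T hp Nat.prime_two h2 (n := 1) (x := x) hx2
  obtain ⟨ζ, hζ⟩ := exists_prim (p := p) Nat.prime_two h2
  obtain ⟨b, hb, e⟩ := J2.exists_bits (hp := hp) hζ hg (by rw [conj_pow, hx2, mul_one, mul_inv_cancel])
  obtain ⟨c, hc⟩ := exists_byte7 b hb
  have hb' : (fun i : Fin 7 => (b i : ℤ)) = fun i : Fin 7 => (J2.bt c i : ℤ) := funext fun i => by rw [hc]
  rw [hb'] at e
  have h0 : dd p x = 7 + n7 c := by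
    rw [← dd_conj g, dd_tor_zpow hp hg hζ e]
    congr 1
    unfold n7
    exact congrArg Finset.card (Finset.filter_congr fun s _ => J2.dvd_iff_of_modEq (psi_modEq7 c s))
  rcases tab7' c with h | h | h | h
  · omega
  · omega
  · omega
  · refine absurd ?_ hx1
    have h1 : g * x * g⁻¹ = 1 := cX_inj hp hg (one_mem _) fun i => by
      rw [e, psi_sr, h, cX_one, Nat.cast_zero, zpow_zero]
    rwa [mul_inv_eq_one, mul_eq_left] at h1

/-! ### the second orthogonality bound -/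

open Finset in
theorem two_bound {K V E : Type*} [Field K] [IsAlgClosed K] [AddCommGroup V] [Module K V] [FiniteDimensional K V]
    [Group E] [Fintype E] (ρ : E →* Module.End K V) {r : ℕ} (hr : r.Prime) (hK : (r : K) ≠ 0)
    (hc : ∀ x y : E, x * y = y * x) (hx : ∀ x : E, x ^ r = 1) {B : ℤ}
    (hB : ∀ e : E, e ≠ 1 → ∑ c ∈ Polynomial.nthRootsFinset r (1 : K), (DS.NT.ev ρ e c : ℤ) = Module.finrank K V →
      ∑ c ∈ Polynomial.nthRootsFinset r (1 : K), (DS.NT.ev ρ e c : ℤ) ^ 2 ≤ B) :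
    (Fintype.card E : ℤ) * ((Module.finrank K V : ℤ) ^ 2 + (r - 1) * Module.finrank K V) ≤
      r * ((Module.finrank K V : ℤ) ^ 2 + (Fintype.card E - 1) * B) := by
  classical
  obtain ⟨κ, _, χ, h1, h2, -⟩ := DS.NT.exists_chars ρ hK hc hx
  have h := DS.NT.count_chars hr hx fun t : κ × κ => χ t.1 / χ t.2
  have hm : ∀ (j : κ) (e : E), (χ j e : K) ∈ (Polynomial.nthRootsFinset r (1 : K) : Set K) := fun j e => by
    rw [mem_coe, Polynomial.mem_nthRootsFinset hr.pos, ← Units.val_pow_eq_pow_val, ← map_pow, hx, map_one,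
      Units.val_one]
  have h3 : ∀ e, (#{t : κ × κ | (χ t.1 / χ t.2) e = 1} : ℤ) =
      ∑ c ∈ Polynomial.nthRootsFinset r (1 : K), (DS.NT.ev ρ e c : ℤ) ^ 2 := by
    intro e
    rw [card_eq_sum_card_fiberwise (f := fun t : κ × κ => (χ t.1 e : K)) (t := Polynomial.nthRootsFinset r (1 : K))
      (fun t _ => hm t.1 e), Nat.cast_sum]
    refine sum_congr rfl fun c _ => ?_
    rw [h2, ← Nat.cast_pow, sq, ← card_product]
    congr 2
    ext t
    simp only [mem_filter, mem_univ, true_and, mem_product, MonoidHom.div_apply, div_eq_one, Units.ext_iff]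
    constructor
    · rintro ⟨e1, e2⟩
      exact ⟨e2, e1 ▸ e2⟩
    · rintro ⟨e1, e2⟩
      exact ⟨e1.trans e2.symm, e1⟩
  have h4 : ∀ e, ∑ c ∈ Polynomial.nthRootsFinset r (1 : K), (DS.NT.ev ρ e c : ℤ) = Module.finrank K V := by
    intro e
    rw [← h1, ← card_univ, card_eq_sum_card_fiberwise (f := fun j : κ => (χ j e : K))
      (t := Polynomial.nthRootsFinset r (1 : K)) (fun j _ => hm j e), Nat.cast_sum]
    exact sum_congr rfl fun c _ => by rw [h2]
  have h5 : Module.finrank K V ≤ #{t : κ × κ | χ t.1 / χ t.2 = 1} := by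
    rw [← h1, ← card_univ]
    exact card_le_card_of_injOn (fun j => (j, j)) (fun j _ => mem_coe.2 (mem_filter.2 ⟨mem_univ _,
      MonoidHom.ext fun e => by rw [MonoidHom.div_apply, div_self', MonoidHom.one_apply]⟩))
      fun j _ j' _ e => congrArg Prod.fst e
  have h6 : ∑ e ∈ univ.erase (1 : E), (#{t : κ × κ | (χ t.1 / χ t.2) e = 1} : ℤ) ≤ (Fintype.card E - 1) * B := by
    have h7 := sum_le_card_nsmul (univ.erase (1 : E)) (fun e => (#{t : κ × κ | (χ t.1 / χ t.2) e = 1} : ℤ)) B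
      fun e he => by
        rw [h3]
        exact hB e (ne_of_mem_erase he) (h4 e)
    rwa [card_erase_of_mem (mem_univ _), card_univ, nsmul_eq_mul, Nat.cast_pred Fintype.card_pos] at h7
  rw [← add_sum_erase _ _ (mem_univ (1 : E)), Fintype.card_prod, h1] at h
  simp only [map_one, filter_true, card_univ, Fintype.card_prod, h1, Nat.cast_mul] at h
  have h7 : (Module.finrank K V : ℤ) ≤ #{t : κ × κ | χ t.1 / χ t.2 = 1} := by exact_mod_cast h5
  have h8 : (1 : ℤ) ≤ r := by exact_mod_cast hr.pos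
  have h9 := mul_le_mul_of_nonneg_left h7 (mul_nonneg (Int.natCast_nonneg (Fintype.card E)) (sub_nonneg.2 h8))
  have h10 := mul_le_mul_of_nonneg_left h6 (Int.natCast_nonneg r)
  linarith

theorem card_le_81 {M : CoxeterMatrix (Fin 6)} (hp : IsType chevE6 6 M) {P : Subgroup (YY chevE6 p)} (h : EL p 3 P)
    (hd : ∀ e ∈ P, e ≠ 1 → dd p e = 24 ∨ dd p e = 30) : Nat.card P ≤ 81 := by
  classical
  have := h.fin
  have := Fintype.ofFinite P
  have hN : Module.finrank (KK p) (chevE6.Idx → KK p) = 78 := by rw [finrank_ad hp, nrE6]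
  obtain ⟨ζ, hζ⟩ := exists_prim (p := p) h.prime h.ne
  have h1 := two_bound ((ad chevE6 p).comp P.subtype) h.prime (cast_ne_zero h.prime h.ne)
    (fun x y => Subtype.ext (h.comm x x.2 y y.2)) (fun x => Subtype.ext (h.pow x x.2)) (B := 2052) fun e he h2 => by
      obtain ⟨g, hg⟩ := exists_conj_T hp h.prime h.ne (n := 1) (x := (e : YY chevE6 p))
        (by rw [pow_one]; exact h.pow e e.2)
      have h3 : (1 : KK p) ∈ Polynomial.nthRootsFinset 3 (1 : KK p) := Polynomial.one_mem_nthRootsFinset (by norm_num)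
      have h4 : ∀ c ∈ (Polynomial.nthRootsFinset 3 (1 : KK p)).erase 1,
          DS.NT.ev ((ad chevE6 p).comp P.subtype) e c = DS.NT.ev (ad chevE6 p) e ζ := by
        intro c hc
        obtain ⟨i, hi, rfl⟩ := hζ.eq_pow_of_pow_eq_one
          ((Polynomial.mem_nthRootsFinset (by norm_num) _).1 (Finset.mem_of_mem_erase hc))
        have h5 := Finset.ne_of_mem_erase hc
        interval_cases i
        · exact absurd (pow_zero ζ) h5
        · rw [pow_one]
          rfl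
        · rw [show ζ ^ 2 = ζ⁻¹ from eq_inv_of_mul_eq_one_left (by rw [← pow_succ, hζ.pow_eq_one])]
          exact ev_inv hp hg ζ
      have h5 : ((Polynomial.nthRootsFinset 3 (1 : KK p)).erase 1).card = 2 := by
        rw [Finset.card_erase_of_mem h3, hζ.card_nthRootsFinset]
      have h6 : DS.NT.ev ((ad chevE6 p).comp P.subtype) e 1 = dd p (e : YY chevE6 p) := rfl
      rw [← Finset.add_sum_erase _ _ h3, Finset.sum_congr rfl fun c hc => by rw [h4 c hc], Finset.sum_const, h5, h6,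
        nsmul_eq_mul] at h2 ⊢
      rw [hN] at h2
      rcases hd e e.2 fun h7 => he (Subtype.ext h7) with h7 | h7
      · rw [h7] at h2 ⊢
        have h8 : (DS.NT.ev (ad chevE6 p) e ζ : ℤ) = 27 := by
          push_cast at h2
          linarith
        rw [h8]
        norm_num
      · rw [h7] at h2 ⊢
        have h8 : (DS.NT.ev (ad chevE6 p) e ζ : ℤ) = 24 := by
          push_cast at h2
          linarith
        rw [h8]
        norm_num
  rw [hN, ← Nat.card_eq_fintype_card] at h1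
  have h2 : (Nat.card P : ℤ) ≤ 144 := by
    push_cast at h1
    linarith
  obtain ⟨n, hn⟩ := h.exists_card
  rw [hn] at h2 ⊢
  have h3 : 3 ^ n < 3 ^ 5 := by
    have h4 : 3 ^ n ≤ 144 := by exact_mod_cast h2
    omega
  exact Nat.pow_le_pow_right (by norm_num) (show n ≤ 4 from
    Nat.lt_succ_iff.1 ((Nat.pow_lt_pow_iff_right (by norm_num)).1 h3))

end Cfsg.Agent.SB.Exc.NT
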