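import Cfsg.Agent.SB.Exc.NT.Ind
import Cfsg.Agent.SB.Exc.NT.Cen

/-!
# S5765, exceptional groups: no invariant toral subgroup (helper86)

`caseA`, `caseB`, `caseC` : the three outcomes of the structure theorems of `DS/Nt`; `boxNT_of`.
-/

set_option autoImplicit false
set_option linter.unusedSectionVars false

namespace Cfsg.Agent.SB.Exc.NT

open CoxeterSystem Cfsg Cfsg.Lie Cfsg.Lie.ChevalleyDatum
open Cfsg.Agent.ChevalleyStructure Cfsg.Agent.Nodes.RGDChev Cfsg.Agent.KFacts.RgdChevCoord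
open Cfsg.Agent.H469.Exc Cfsg.Agent.H316.U6 Cfsg.Agent.DS.Ex Cfsg.Agent.H786.FC
open Cfsg.Agent.DS.Nt hiding Ctx

variable {D : ChevalleyDatum} {l : ℕ} {M : CoxeterMatrix (Fin l)} {hp : IsType D l M} {p : ℕ} [Fact p.Prime]

theorem low_bound (hp : IsType D l M) {N : ℕ} (hN : D.nroots = N) {r d : ℕ} {A : Subgroup (YY D p)} (h : EL p r A)
    (hF : Module.finrank (KK p) (Fx p (A : Set (YY D p))) = l) (hd : ∀ e ∈ A, e ≠ 1 → d ≤ dd p e) :
    ((r : ℤ) - 1) * (l + N : ℕ) + r * ((Nat.card A - 1) * d) ≤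
      (r - 1) * Nat.card A * l + (Nat.card A - 1) * (l + N : ℕ) := by
  classical
  subst hN
  have := h.fin
  have := Fintype.ofFinite A
  have h1 := DS.NT.dim_one ((ad D p).comp A.subtype) h.prime (cast_ne_zero h.prime h.ne)
    (fun x y => Subtype.ext (h.comm x x.2 y y.2)) (fun x => Subtype.ext (h.pow x x.2)) (Fx p (A : Set (YY D p)))
    (fun v => ⟨fun hv e => hv e e.2, fun hv e he => hv ⟨e, he⟩⟩)
  have h2 := Finset.card_nsmul_le_sum (Finset.univ.erase (1 : A))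
    (fun e => (DS.NT.ev ((ad D p).comp A.subtype) e 1 : ℤ)) (d : ℤ) fun e he =>
      Int.ofNat_le.2 (hd e e.2 fun h3 => Finset.ne_of_mem_erase he (Subtype.ext h3))
  rw [Finset.card_erase_of_mem (Finset.mem_univ _), Finset.card_univ, nsmul_eq_mul, Nat.cast_pred Fintype.card_pos]
    at h2
  rw [finrank_ad hp, hF] at h1
  rw [Nat.card_eq_fintype_card, h1]
  have h3 := mul_le_mul_of_nonneg_left h2 (Int.natCast_nonneg r)
  linarith

variable {q : ℕ} {G : Type} [Group G] [Finite G] {T S E : Subgroup G} {F : XF hp p q T} {r : ℕ}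

theorem crit' (hC : BoxCrit) (hD : Typ D) (C : Ctx p T S) (F : XF hp p q T) {f r j b a c p₀ mI mG mO : ℕ}
    (N : Num l f r j b a c p₀ (p₀ ^ 2) mI mG mO) (h0 : p₀ ≤ p)
    (hf : Nat.card ↥(fit S ⊓ F.ID C.as.normal) ≤ f) (hr : Nat.card ↥(S ⊓ T) ≤ r)
    (hb : ∀ c' ∈ fit S, ∀ y, F.Ind y c' → (orderOf y).Prime → orderOf y ≠ p →
      Nat.card ↥(DL.fix F.L.σ ⊓ Subgroup.centralizer {y}) ≤ b * (q ^ a * (q + 1) ^ c))
    (hj : D = chevE6 → p ≠ 2 → (∀ X : Subgroup G, X ≤ S ⊓ T → IsPGroup 2 X → Nm S X → Nat.card X ≤ 2 ^ j) ∧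
      mG ^ (j + 1) * (3 * r) ≤ ordU l 3) : FitReg T S := by
  have h1 := F.m.hq
  have h2 := F.m.he
  refine crit hC hD C F N (h0.trans ?_) (fun h3 => (Nat.pow_le_pow_left h0 2).trans ?_) hf hr hb hj
  · rw [← h1]
    exact Nat.le_self_pow h2.ne' p
  · rw [← h1] at h3 ⊢
    refine Nat.pow_le_pow_right (Fact.out : p.Prime).pos ?_
    by_contra h4
    exact h3 (by rw [show F.m.e = 1 by omega, pow_one])

theorem le_bI (hCI : BoxCI) (hD : Typ D) {y : YY D p} {c : G} (h : F.Ind y c) (h1 : (orderOf y).Prime)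
    (h2 : orderOf y ≠ p) : Nat.card ↥(DL.fix F.L.σ ⊓ Subgroup.centralizer {y}) ≤ bI l p q := by
  have h3 := hCI D l M hp hD p F.m.e F.L.σ F.m.g F.m.he (by rw [F.hσ]; exact F.m.frob) (by rw [F.hσ]; exact F.m.fr) y
    (ind_fix h) h1 h2
  rwa [F.m.hq] at h3

theorem le_b6 (hCI : BoxCI6) {M : CoxeterMatrix (Fin 6)} {hp : IsType chevE6 6 M} {F : XF hp p q T}
    {y : YY chevE6 p} {c : G} (h : F.Ind y c) (h1 : orderOf y = 3) (h2 : orderOf y ≠ p)
    (h3 : ¬ LC p y ∨ ∃ x : YY chevE6 p, x ^ 3 = 1 ∧ x * y = y * x ∧ ¬ Tp p y x) :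
    Nat.card ↥(DL.fix F.L.σ ⊓ Subgroup.centralizer {y}) ≤ 3 * (q ^ 24 * (q + 1) ^ 6) := by
  obtain rfl := eqE6 hp
  have h4 := (hCI p F.m.e F.L.σ F.m.g F.m.he (by rw [F.hσ]; exact F.m.frob) (by rw [F.hσ]; exact F.m.fr) y
    (ind_fix h) (by rw [h1]; norm_num) h2).2 h1 h3
  rwa [F.m.hq] at h4

theorem bI4 (p q : ℕ) : bI 4 p q = 1 * (q ^ (if p = 2 then 18 else 32) * (q + 1) ^ 4) := by
  by_cases h : p = 2 <;> simp [bI, h]

theorem bI6 (p q : ℕ) : bI 6 p q = 1 * (q ^ 40 * (q + 1) ^ 6) := by simp [bI]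

theorem bI7 (p q : ℕ) : bI 7 p q = 2 * (q ^ 72 * (q + 1) ^ 7) := by simp [bI]

theorem bI8 (p q : ℕ) : bI 8 p q = 1 * (q ^ 128 * (q + 1) ^ 8) := by simp [bI]

theorem neE6_F4 : chevF4 ≠ chevE6 := fun h => absurd (congrArg ChevalleyDatum.nroots h) (by rw [nrE6, nrF4]; norm_num)

theorem neE6_E7 : chevE7 ≠ chevE6 := fun h => absurd (congrArg ChevalleyDatum.nroots h) (by rw [nrE6, nrE7]; norm_num)

theorem neE6_E8 : chevE8 ≠ chevE6 := fun h => absurd (congrArg ChevalleyDatum.nroots h) (by rw [nrE6, nrE8]; norm_num)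

theorem neE7_E8 : chevE8 ≠ chevE7 := fun h => absurd (congrArg ChevalleyDatum.nroots h) (by rw [nrE7, nrE8]; norm_num)

theorem three_le (h : 2 ≠ p) : 3 ≤ p := by
  have h1 := (Fact.out : p.Prime).two_le
  omega

theorem five_le (h2 : p ≠ 2) (h3 : 3 ≠ p) : 5 ≤ p := (Fact.out : p.Prime).five_le_of_ne_two_of_ne_three h2 h3.symm

theorem two_le_fit {X : Subgroup G} (h1 : X ≤ S ⊓ T) (h2 : IsPGroup 2 X) (h3 : Nm S X) :
    X ≤ fit S ⊓ T :=
  le_inf (le_fit (h1.trans inf_le_left) h3 h2.isNilpotent) (h1.trans inf_le_right)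

theorem imD_le_cen (C : Ctx p T S) (hL : DS.Loc T S E r) :
    imD F C.as.normal (fit S) ≤ Subgroup.centralizer (im F.L E : Set (YY D p)) := fun y hy => by
  obtain ⟨c, h1, h2⟩ := (mem_imD C.as.normal).1 hy
  refine Subgroup.mem_centralizer_iff.2 ?_
  rintro _ ⟨x, hx, rfl⟩
  exact (ind_comm h2 (fit_cent C hL c h1 x hx)).symm

/-! ### a toral subgroup of `E` without roots -/

theorem dataA (C : Ctx p T S) (N : DS.Nt.Ctx F.L S) (hL : DS.Loc T S E r) (hE : EA p r (im F.L E))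
    {A : Subgroup (YY D p)} (hA : A ≤ im F.L E) (hT : Toral p A)
    (hF : Module.finrank (KK p) (Fx p (A : Set (YY D p))) = l) (hc : Nat.card E ≤ r * Nat.card A) {j n : ℕ}
    (hW : ¬ r ^ (j + 1) ∣ Nat.card M.Group) (hn : Nat.card E ≤ r ^ n) :
    (∀ y : YY D p, (∀ e ∈ im F.L E, y * e = e * y) → ∀ m : ℕ, r.Coprime m → y ^ m = 1 → y = 1) ∧
    ∃ b, Nat.card ↥(fit S ⊓ F.ID C.as.normal) ≤ b * r ^ j ∧ Nat.card ↥(S ⊓ T) ≤ b * r ^ j * (r ^ n) ^ n ∧
      b ≤ r ^ l ∧ (r = 3 → b ^ 2 ≤ 3 ^ l) := by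
  have hI : F.L.Inv S (im F.L E) := inv_im hL.normal hL.norm.ge
  obtain ⟨B, h1, h2⟩ := exists_rp hp (hE.mono hA).el hA hT hF
  have h3 := N.noT B h1 fun φ hφ y hy => by
    obtain ⟨a1, m, a2, a3⟩ := (h2 y).1 hy
    exact (h2 _).2 ⟨fun e he => comm_app φ (a1 _ (hI φ⁻¹ (π_inv hφ) e he)), m, a2, by rw [← map_pow, a3, map_one]⟩
  have h0 : ∀ y : YY D p, (∀ e ∈ im F.L E, y * e = e * y) → ∀ m : ℕ, r.Coprime m → y ^ m = 1 → y = 1 :=
    fun y a1 m a2 a3 => Subgroup.mem_bot.1 (h3.le ((h2 y).2 ⟨a1, m, a2, a3⟩))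
  obtain ⟨hfin, b, h4, h5, h6⟩ := cen_bound hp N.typ hE hA hT hF (N.not_toral hL) (by rwa [card_im hL.le_S]) h0 hW
  refine ⟨h0, b, ?_, (card_le_aut hL).trans (Nat.mul_le_mul ?_ ?_), h5, h6⟩
  · rw [← card_imD C.as]
    exact (Subgroup.card_le_of_le (imD_le_cen C hL)).trans h4
  · rw [← card_im (L := F.L) (inf_le_right : Subgroup.centralizer (E : Set G) ⊓ T ≤ T)]
    refine (Subgroup.card_le_of_le ?_).trans h4
    rintro _ ⟨x, hx, rfl⟩
    exact Subgroup.mem_centralizer_iff.2 fun e he => (ι_comm hx.1 he).symm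
  · exact card_mulAut_le hL.prime (fun x => ⟨1, Subtype.ext (by rw [pow_one]; exact hL.pow x x.2)⟩) hn

theorem numA4 : Num 4 (3 ^ 4) (3 ^ 13) 0 1 18 4 2 (2 ^ 2) (32 * 3 ^ 14) (100 * 3 ^ 13) (7 * 3 ^ 17) := by
  constructor <;> decide +kernel

theorem numA4' : Num 4 (3 ^ 4) (3 ^ 13) 0 1 32 4 5 (5 ^ 2) (3 ^ 18) (3 ^ 14) (3 ^ 18) := by
  constructor <;> decide +kernel

theorem numA6 : Num 6 (3 ^ 7) (3 ^ 16) 0 3 24 6 2 (2 ^ 2) (3 ^ 24) (3 ^ 17) (3 ^ 24) := by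
  constructor <;> decide +kernel

theorem numA85 : Num 8 (5 ^ 10) (5 ^ 19) 0 1 128 8 2 (2 ^ 2) (5 ^ 30) (5 ^ 20) (5 ^ 30) := by
  constructor <;> decide +kernel

theorem numA82 : Num 8 (2 ^ 22) (2 ^ 47) 0 1 128 8 3 (3 ^ 2) (2 ^ 71) (2 ^ 49) (2 ^ 71) := by
  constructor <;> decide +kernel

theorem caseA (hCI : BoxCI) (hC6 : BoxCI6) (hC : BoxCrit) (C : Ctx p T S) (N : DS.Nt.Ctx F.L S) (hL : DS.Loc T S E r)
    (hE : EA p r (im F.L E)) (h : OutA F.L E r) : FitReg T S := by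
  obtain ⟨⟨A, hA, hT, hF⟩, h1⟩ := h
  have hW := card_W hp
  have hl := typ_l hp
  have h2p := (Fact.out : p.Prime).two_le
  rcases h1 with ⟨rfl, rfl, h2⟩ | ⟨rfl, rfl, -⟩ | ⟨rfl, rfl, h2⟩ | ⟨rfl, rfl, h2⟩
  · obtain rfl := hl.1 rfl
    have h3 := low_bound hp nrF4 (hE.mono hA).el hF (d := 16) fun e he h1 =>
      (((iso_F4 hE.prime (N.iso hL hE (hA he) h1)).resolve_left fun h => absurd h.1 (by norm_num)).2).ge
    obtain ⟨-, b, h4, h5, -, h6⟩ := dataA C N hL hE hA hT hF (by omega) (j := 2) (by rw [hW.1 rfl]; norm_num) h2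
    have h7 : b ≤ 9 := by
      have h8 := h6 rfl
      nlinarith
    by_cases hp2 : p = 2
    · exact crit' hC N.typ C F numA4 h2p (by omega) (by omega) (fun c _ y a1 a2 a3 => by
        have h8 := le_bI hCI N.typ a1 a2 a3
        rwa [bI4, if_pos hp2] at h8) fun e => absurd e neE6_F4
    · exact crit' hC N.typ C F numA4' (five_le hp2 hE.ne) (by omega) (by omega) (fun c _ y a1 a2 a3 => by
        have h8 := le_bI hCI N.typ a1 a2 a3
        rwa [bI4, if_neg hp2] at h8) fun e => absurd e neE6_F4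
  · obtain rfl := hl.2.1 rfl
    have hd : ∀ e ∈ im F.L E, e ≠ 1 → dd p e = 24 := fun e he h1 =>
      ((iso_E6 hE.prime (N.iso hL hE he h1)).resolve_left fun h => absurd h.1 (by norm_num)).2
    have h3 := low_bound hp nrE6 (hE.mono hA).el hF (d := 24) fun e he h1 => (hd e (hA he) h1).ge
    have h2 : Nat.card E ≤ 3 ^ 3 := by
      have a1 := pure_eq hp hE.el hd
      have e : ((6 + chevE6.nroots : ℕ) : ℤ) = 78 := by
        rw [nrE6]
        norm_num
      rw [e, mul_assoc, card_im hL.le_S] at a1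
      have a2 : (0 : ℤ) ≤ (Nat.card E : ℤ) * Module.finrank (KK p) (Fx p (im F.L E : Set (YY chevE6 p))) :=
        mul_nonneg (Int.natCast_nonneg _) (Int.natCast_nonneg _)
      omega
    obtain ⟨h0, b, h4, h5, -, h6⟩ := dataA C N hL hE hA hT hF (by omega) (j := 4) (by rw [hW.2.1 rfl]; norm_num) h2
    have h7 : b ≤ 27 := by
      have h8 := h6 rfl
      nlinarith
    have hcen : ∀ c ∈ fit S, ∀ y, F.Ind y c → ∀ e ∈ im F.L E, y * e = e * y := fun c a0 y a1 e he =>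
      (Subgroup.mem_centralizer_iff.1 (imD_le_cen C hL ((mem_imD C.as.normal).2 ⟨c, a0, a1⟩)) e he).symm
    refine crit' hC N.typ C F numA6 h2p (by omega) (by omega) (fun c a0 y a1 a2 a3 => ?_)
      fun _ _ => ⟨fun X a1 a2 a3 => ?_, by decide +kernel⟩
    · have a4 : orderOf y = 3 := by
        by_contra a5
        have a6 := h0 y (hcen c a0 y a1) _ ((Nat.coprime_primes Nat.prime_three a2).2 (Ne.symm a5))
          (pow_orderOf_eq_one y)
        rw [a6, orderOf_one] at a2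
        exact Nat.not_prime_one a2
      refine le_b6 hC6 a1 a4 a3 (Or.inl fun a5 => ?_)
      obtain ⟨s, hs⟩ := exists_Lp p
      obtain ⟨u, a6, a7, a8⟩ := a5 s hs
      exact a6 (h0 u (fun e he => a8 e (hcen c a0 y a1 e he).symm) s
        ((Nat.coprime_primes Nat.prime_three hs.1).2 (by have := hs.2.1; omega)) a7)
    · refine (Subgroup.card_le_one_iff_eq_bot X).2 (eq_bot_iff.2 fun x hx => ?_)
      obtain ⟨k, hk⟩ := a2 ⟨x, hx⟩
      have a4 : x ^ 2 ^ k = 1 := congrArg Subtype.val hk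
      have a5 := h0 _ (hcen x (two_le_fit a1 a2 a3 hx).1 _ (ind_iota ⟨x, (a1 hx).2⟩)) (2 ^ k)
        (Nat.Coprime.pow_right k (by norm_num)) (by
          rw [← map_pow, show (⟨x, (a1 hx).2⟩ : T) ^ 2 ^ k = 1 from Subtype.ext a4, map_one])
      rw [← map_one F.L.ι] at a5
      exact Subgroup.mem_bot.2 (congrArg Subtype.val (F.L.inj a5))
  · obtain rfl := hl.2.2.2 rfl
    have h3 := low_bound hp nrE8 (hE.mono hA).el hF (d := 48) fun e he h1 =>
      ((((iso_E8 hE.prime (N.iso hL hE (hA he) h1)).resolve_left fun h => absurd h.1 (by norm_num)).resolve_left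
        fun h => absurd h.1 (by norm_num)).2).ge
    obtain ⟨-, b, h4, h5, h6, -⟩ := dataA C N hL hE hA hT hF (by omega) (j := 2) (by rw [hW.2.2.2 rfl]; norm_num) h2
    exact crit' hC N.typ C F numA85 h2p (by omega) (by omega) (fun c _ y a1 a2 a3 => by
      have h8 := le_bI hCI N.typ a1 a2 a3
      rwa [bI8] at h8) fun e => absurd e neE6_E8
  · obtain rfl := hl.2.2.2 rfl
    have h3 := low_bound hp nrE8 (hE.mono hA).el hF (d := 120) fun e he h1 => by
      rcases (((iso_E8 hE.prime (N.iso hL hE (hA he) h1)).resolve_right fun h =>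
        h.elim (fun h => absurd h.1 (by norm_num)) fun h => absurd h.1 (by norm_num)).2) with h | h <;> omega
    obtain ⟨-, b, h4, h5, h6, -⟩ := dataA C N hL hE hA hT hF (by omega) (j := 14) (by rw [hW.2.2.2 rfl]; norm_num) h2
    exact crit' hC N.typ C F numA82 (three_le hE.ne) (by omega) (by omega) (fun c _ y a1 a2 a3 => by
      have h8 := le_bI hCI N.typ a1 a2 a3
      rwa [bI8] at h8) fun e => absurd e neE6_E8

/-! ### the centraliser of `E` is elementary abelian -/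

theorem dataB (C : Ctx p T S) (hL : DS.Loc T S E r) (hE : EA p r (im F.L E)) {d : ℕ} {J : YY D p → Subgroup (YY D p)}
    (h : DOut F.L E r d J) : ∃ B : Subgroup (YY D p), EL p r B ∧ F.L.Inv S B ∧
      Nat.card ↥(fit S ⊓ T) ≤ Nat.card B := by
  refine ⟨im F.L (Subgroup.centralizer (E : Set G) ⊓ T), ⟨hE.prime, hE.ne, finite_im _ _, ?_, ?_⟩,
    inv_im hL.normal (le_normalizer_of_conj fun s hs x hx => ⟨?_, hL.normal.conj_mem _ hx.2 s⟩), ?_⟩
  · rintro _ ⟨x, hx, rfl⟩ _ ⟨y, hy, rfl⟩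
    rw [← map_mul, ← map_mul, show x * y = y * x from Subtype.ext (h.comm x hx y hy)]
  · rintro _ ⟨x, hx, rfl⟩
    rw [← map_pow, show x ^ r = 1 from Subtype.ext (h.pow x hx), map_one]
  · refine Subgroup.mem_centralizer_iff.2 fun e he => ?_
    have h1 := Subgroup.mem_centralizer_iff.1 hx.1 _ (nm_of_le hL.norm.ge _ (inv_mem hs) e he)
    calc e * (s * x * s⁻¹) = s * (s⁻¹ * e * s⁻¹⁻¹ * x) * s⁻¹ := by group
      _ = _ := by rw [h1]; group
  · rw [card_im inf_le_right]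
    exact Subgroup.card_le_of_le (inf_le_inf_right _ fun c hc =>
      Subgroup.mem_centralizer_iff.2 fun x hx => (fit_cent C hL c hc x hx).symm)

theorem critB (hC : BoxCrit) (hD : Typ D) (C : Ctx p T S) (F : XF hp p q T) {n j b a c p₀ mI mG mO : ℕ}
    (N : Num l (dM l * n) (n ^ 4) j b a c p₀ (p₀ ^ 2) mI mG mO) (h0 : p₀ ≤ p) (hn : Nat.card ↥(fit S ⊓ T) ≤ n)
    (hb : ∀ c' ∈ fit S, ∀ y, F.Ind y c' → (orderOf y).Prime → orderOf y ≠ p →
      Nat.card ↥(DL.fix F.L.σ ⊓ Subgroup.centralizer {y}) ≤ b * (q ^ a * (q + 1) ^ c))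
    (hj : D = chevE6 → p ≠ 2 → n ≤ 2 ^ j ∧ mG ^ (j + 1) * (3 * n ^ 4) ≤ ordU l 3) : FitReg T S :=
  crit' hC hD C F N h0 ((card_ID_le C.as _).trans (Nat.mul_le_mul_left _ hn))
    ((card_inf_le C).trans (Nat.pow_le_pow_left hn 4)) hb fun e h2 =>
      ⟨fun _ a1 a2 a3 => ((Subgroup.card_le_of_le (two_le_fit a1 a2 a3)).trans hn).trans (hj e h2).1, (hj e h2).2⟩

theorem numB4 : Num 4 (dM 4 * 2 ^ 3) ((2 ^ 3) ^ 4) 0 1 32 4 3 (3 ^ 2) (2 ^ 17) (2 ^ 14) (2 ^ 17) := by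
  constructor <;> decide +kernel

theorem numB6 : Num 6 (dM 6 * 2 ^ 4) ((2 ^ 4) ^ 4) 4 1 40 6 3 (3 ^ 2) (12 * 2 ^ 20) (2 ^ 21) (12 * 2 ^ 20) := by
  constructor <;> decide +kernel

theorem numB72 : Num 7 (dM 7 * 2 ^ 11) ((2 ^ 11) ^ 4) 0 2 72 7 3 (3 ^ 2) (2 ^ 58) (2 ^ 46) (2 ^ 58) := by
  constructor <;> decide +kernel

theorem numB73 : Num 7 (dM 7 * 3 ^ 3) ((3 ^ 3) ^ 4) 0 2 72 7 2 (2 ^ 2) (3 ^ 17) (3 ^ 13) (3 ^ 17) := by
  constructor <;> decide +kernel

theorem numB82 : Num 8 (dM 8 * 2 ^ 13) ((2 ^ 13) ^ 4) 0 1 128 8 3 (3 ^ 2) (2 ^ 67) (2 ^ 54) (2 ^ 67) := by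
  constructor <;> decide +kernel

theorem numB83 : Num 8 (dM 8 * 3 ^ 7) ((3 ^ 7) ^ 4) 0 1 128 8 2 (2 ^ 2) (3 ^ 36) (3 ^ 29) (3 ^ 36) := by
  constructor <;> decide +kernel

theorem caseB (hCI : BoxCI) (hC : BoxCrit) (C : Ctx p T S) (N : DS.Nt.Ctx F.L S) (hL : DS.Loc T S E r)
    (hE : EA p r (im F.L E)) (h : OutB F.L E r) : FitReg T S := by
  obtain ⟨⟨i, d, J, -, -, hD⟩, h1⟩ := h
  obtain ⟨B, hB, hI, hc⟩ := dataB C hL hE hD
  clear hD
  have hl := typ_l hp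
  have h2p := (Fact.out : p.Prime).two_le
  rcases h1 with ⟨rfl, rfl, -⟩ | ⟨rfl, rfl, -⟩ | ⟨rfl, rfl, -⟩ | ⟨rfl, rfl, -⟩ | ⟨rfl, rfl, -⟩ | ⟨rfl, rfl, -⟩
  · obtain rfl := hl.1 rfl
    have hB' := ea_of_el hp N.typ hB (fun h => absurd h.2 (by norm_num)) fun h => neF4_E7 h.1.symm
    have hi : ∀ e ∈ B, e ≠ 1 → dd p e = 36 ∨ dd p e = 24 := fun e he h1 =>
      ((iso_F4 hB.prime (N.iso' hI hB' he h1)).resolve_right fun h => absurd h.1 (by norm_num)).2.imp_right And.left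
    let K : Subgroup (YY chevF4 p) :=
      { carrier := {x | x ∈ B ∧ (x = 1 ∨ dd p x = 36)}
        one_mem' := ⟨one_mem _, Or.inl rfl⟩
        mul_mem' := by
          rintro x y ⟨hx, rfl | h1⟩ ⟨hy, h2⟩
          · rw [one_mul]
            exact ⟨hy, h2⟩
          rcases h2 with rfl | h2
          · rw [mul_one]
            exact ⟨hx, Or.inr h1⟩
          by_cases h3 : x * y = 1
          · exact ⟨mul_mem hx hy, Or.inl h3⟩
          · exact ⟨mul_mem hx hy, Or.inr ((hi _ (mul_mem hx hy) h3).resolve_right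
              (f4_mul hp hB.ne (hB'.tp x hx y hy) (hB.pow x hx) (hB.pow y hy) h1 h2))⟩
        inv_mem' := by
          rintro x ⟨hx, h1⟩
          rw [show x⁻¹ = x from inv_eq_of_mul_eq_one_left (by rw [← pow_two, hB.pow x hx])]
          exact ⟨hx, h1⟩ }
    have hK := N.noT K (P4.boxP4 p K (hB'.mono fun x hx => hx.1) fun e he h1 => he.2.resolve_left h1)
      fun φ hφ x hx => ⟨hI φ hφ x hx.1, hx.2.imp (fun h => by rw [h, map_one])
        fun h => by rw [dd_app (fun _ => hB.ne.symm) hB' φ hx.1, h]⟩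
    have h2 := card_le_of_dvd hB (k := 3) (pure_dvd hp hB fun e he h1 => (hi e he h1).resolve_left fun h =>
      h1 (Subgroup.mem_bot.1 (hK.le ⟨he, Or.inr h⟩))) (by rw [nrF4]; decide)
    exact critB hC N.typ C F numB4 (three_le hB.ne) (hc.trans h2) (fun c _ y a1 a2 a3 => by
      have h8 := le_bI hCI N.typ a1 a2 a3
      rwa [bI4, if_neg hB.ne.symm] at h8) fun e => absurd e neE6_F4
  · obtain rfl := hl.2.1 rfl
    have hB' := ea_of_el hp N.typ hB (fun h => absurd h.2 (by norm_num)) fun h => neE6_E7 h.1.symm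
    have h2 := card_le_of_dvd hB (k := 4) (pure_dvd hp hB fun e he h1 =>
      ((iso_E6 hB.prime (N.iso' hI hB' he h1)).resolve_right fun h => absurd h.1 (by norm_num)).2.1)
      (by rw [nrE6]; decide)
    exact critB hC N.typ C F numB6 (three_le hB.ne) (hc.trans h2) (fun c _ y a1 a2 a3 => by
      have h8 := le_bI hCI N.typ a1 a2 a3
      rwa [bI6] at h8) fun _ _ => ⟨le_rfl, by decide +kernel⟩
  · obtain rfl := hl.2.2.1 rfl
    have h2 := card_le_of_dvd hB (k := 11) (dvd_two hp hB {-7, 5, 25} fun e he h1 => by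
      rw [nrE7]
      rcases e7_inv hp hB.ne (hB.pow e he) h1 with h | h | h <;> rw [h] <;> decide) (by rw [nrE7]; decide)
    exact critB hC N.typ C F numB72 (three_le hB.ne) (hc.trans h2) (fun c _ y a1 a2 a3 => by
      have h8 := le_bI hCI N.typ a1 a2 a3
      rwa [bI7] at h8) fun e => absurd e neE6_E7
  · obtain rfl := hl.2.2.1 rfl
    have hB' := ea_of_el hp N.typ hB (fun h => neE6_E7 h.1) fun h => absurd h.2 (by norm_num)
    have h2 := card_le_of_dvd hB (k := 3) (pure_dvd hp hB fun e he h1 =>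
      ((iso_E7 hB.prime (N.iso' hI hB' he h1)).resolve_left fun h => absurd h.1 (by norm_num)).2.1)
      (by rw [nrE7]; decide)
    exact critB hC N.typ C F numB73 h2p (hc.trans h2) (fun c _ y a1 a2 a3 => by
      have h8 := le_bI hCI N.typ a1 a2 a3
      rwa [bI7] at h8) fun e => absurd e neE6_E7
  · obtain rfl := hl.2.2.2 rfl
    have hB' := ea_of_el hp N.typ hB (fun h => neE6_E8 h.1) fun h => neE7_E8 h.1
    have h2 := card_le_of_dvd hB (k := 13) (dvd_two hp hB {-8, 24} fun e he h1 => by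
      rw [nrE8]
      rcases ((iso_E8 hB.prime (N.iso' hI hB' he h1)).resolve_right fun h =>
        h.elim (fun h => absurd h.1 (by norm_num)) fun h => absurd h.1 (by norm_num)).2 with h | ⟨h, -⟩ <;>
        rw [h] <;> decide) (by rw [nrE8]; decide)
    exact critB hC N.typ C F numB82 (three_le hB.ne) (hc.trans h2) (fun c _ y a1 a2 a3 => by
      have h8 := le_bI hCI N.typ a1 a2 a3
      rwa [bI8] at h8) fun e => absurd e neE6_E8
  · obtain rfl := hl.2.2.2 rfl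
    have hB' := ea_of_el hp N.typ hB (fun h => neE6_E8 h.1) fun h => neE7_E8 h.1
    have h2 := card_le_of_dvd hB (k := 7) (dvd_three hp hB {-4, 5} fun e he h1 => by
      rw [nrE8]
      rcases (((iso_E8 hB.prime (N.iso' hI hB' he h1)).resolve_left fun h => absurd h.1 (by norm_num)).resolve_right
        fun h => absurd h.1 (by norm_num)).2 with h | ⟨h, -⟩
      · exact ⟨-4, by simp, by rw [h]; norm_num⟩
      · exact ⟨5, by simp, by rw [h]; norm_num⟩) (by rw [nrE8]; decide)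
    exact critB hC N.typ C F numB83 h2p (hc.trans h2) (fun c _ y a1 a2 a3 => by
      have h8 := le_bI hCI N.typ a1 a2 a3
      rwa [bI8] at h8) fun e => absurd e neE6_E8

/-! ### trivial radicals -/

theorem exists_loc_of_ea {L : Lift hp p T} (N : DS.Nt.Ctx L S) {A : Subgroup (YY D p)} (hA : EA p r A)
    (hI : L.Inv S A) (h0 : pb L A ≠ ⊥) : ∃ E, DS.Loc T S E r ∧ EA p r (im L E) := by
  obtain ⟨E, r', hEA, hL⟩ := DS.Gen.exists_loc N.setup (pb_le A) (norm_pb N.setup.normal hI) h0 fun x hx y hy => by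
    obtain ⟨hx1, hx2⟩ := mem_pb.1 hx
    obtain ⟨hy1, hy2⟩ := mem_pb.1 hy
    have h3 := hA.comm _ hx2 _ hy2
    rw [← map_mul, ← map_mul] at h3
    exact congrArg Subtype.val (L.inj h3)
  have h1 : im L E ≤ A := by
    rintro _ ⟨x, hx, rfl⟩
    exact coe_mem_pb.1 (hEA hx)
  obtain rfl : r = r' := by
    obtain ⟨e, he, he1⟩ := exists_ne_im L hL
    have := Fact.mk hA.prime
    have := Fact.mk hL.prime
    have h2 : e ^ r' = 1 := by
      obtain ⟨x, hx, rfl⟩ := he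
      rw [← map_pow, show x ^ r' = 1 from Subtype.ext (hL.pow x hx), map_one]
    rw [← orderOf_eq_prime (hA.pow e (h1 he)) he1, orderOf_eq_prime h2 he1]
  exact ⟨E, hL, hA.mono h1⟩

theorem numC6 : Num 6 (3 ^ 4) (3 ^ 16) 0 3 24 6 2 (2 ^ 2) (3 ^ 21) (3 ^ 17) (3 ^ 21) := by
  constructor <;> decide +kernel

theorem numC7 : Num 7 (dM 7 * 2 ^ 4) ((2 ^ 4) ^ 4) 0 2 72 7 3 (3 ^ 2) (2 ^ 23) (2 ^ 18) (2 ^ 23) := by
  constructor <;> decide +kernel

theorem caseC (hCI : BoxCI) (hC6 : BoxCI6) (hC : BoxCrit) (C : Ctx p T S) (N : DS.Nt.Ctx F.L S)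
    (hno : ∀ (E : Subgroup G) (r : ℕ), DS.Loc T S E r → ¬ EA p r (im F.L E)) : FitReg T S := by
  have hR : ∀ r : ℕ, r.Prime → ∀ R : Subgroup G, R ≠ ⊥ → R ≤ T → Nm S R → IsPGroup r R → r ≠ p ∧
      (D = chevE6 ∧ r = 3 ∧ Nat.card R ≤ 3 ^ 6 ∨ D = chevE7 ∧ r = 2 ∧ Nat.card R ≤ 2 ^ 4) := by
    intro r hr R h0 h1 h2 h3
    refine ⟨?_, ((rad_cases N hr h0 h1 (le_normalizer_of_conj h2) h3).resolve_left ?_).2.2.2⟩
    · rintro rfl
      exact h0 (N.noP R h1 h3 (le_normalizer_of_conj h2))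
    · rintro ⟨E, -, h4, h5, -⟩
      exact hno E r h4 h5
  have hs : ∀ c ∈ fit S ⊓ T, (orderOf c).Prime → D = chevE6 ∧ orderOf c = 3 ∨ D = chevE7 ∧ orderOf c = 2 := by
    intro c hc h1
    have hnil := fit_nilpotent S
    obtain ⟨Q, h2, h3, h4, h5⟩ := exists_core (N := fit S ⊓ T)
      (Group.nilpotent_of_mulEquiv (Subgroup.subgroupOfEquivOfLe (inf_le_left : fit S ⊓ T ≤ fit S))) _ h1
    refine (hR _ h1 Q (fun h6 => ?_) (h2.trans inf_le_right) (fun s hs => h5 s (nm_fit_inf C.as.normal s hs))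
      h3).2.imp (fun h => ⟨h.1, h.2.1⟩) fun h => ⟨h.1, h.2.1⟩
    have h7 := (h4 c hc).1 ⟨1, by rw [pow_one, pow_orderOf_eq_one]⟩
    rw [h6, Subgroup.mem_bot] at h7
    rw [h7, orderOf_one] at h1
    exact Nat.not_prime_one h1
  obtain ⟨X, a1, a2, a3, -, -, ⟨r, hr, a4⟩, -⟩ := C.max.exists_min C.as C.solv
  have hl := typ_l hp
  obtain ⟨hrp, ⟨rfl, rfl, -⟩ | ⟨rfl, rfl, -⟩⟩ := hR r hr X a2 (a1.trans inf_le_right) a3
    fun x => ⟨1, Subtype.ext (by rw [pow_one]; exact a4 x x.2)⟩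
  · obtain rfl := hl.2.1 rfl
    have := finite_imD (F := F) C.as.normal (fit S)
    have hI : F.L.Inv S (imD F C.as.normal (fit S)) := inv_imD _ nm_fit
    have h3 : ∀ c ∈ fit S, ∀ y, F.Ind y c → (orderOf y).Prime → orderOf y = 3 := by
      intro c hc y h1 h2
      by_contra h4
      have h5 : y ∈ F.L.ι.range := mem_of_pow_coprime (a := F.L.dd) (b := orderOf y) (F.L.pow_dd y (ind_fix h1))
        (by rw [pow_orderOf_eq_one]; exact one_mem _) (by
          rcases F.L.hdd with h | ⟨-, h⟩ | ⟨h, -⟩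
          · rw [h]
            exact Nat.coprime_one_left _
          · rw [h]
            exact (Nat.coprime_primes Nat.prime_three h2).2 (Ne.symm h4)
          · exact absurd h.symm neE6_E7)
      have h6 : orderOf c = orderOf y := by
        rw [← theta_eq C.as.normal h1, orderOf_injective _ (theta_inj C.as)]
        exact (Subgroup.orderOf_mk (H := F.ID C.as.normal) c ⟨y, h1⟩).symm
      rcases hs c ⟨hc, mem_T_of_ind C.as h1 h5⟩ (by rwa [h6]) with h | h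
      · exact h4 (h6 ▸ h.2)
      · exact neE6_E7 h.1.symm
    have hP : IsPGroup 3 (imD F C.as.normal (fit S)) := isPGroup_of_prime fun x hx => by
      obtain ⟨c, h1, h2⟩ := (mem_imD C.as.normal).1 x.2
      rw [← Subgroup.orderOf_coe] at hx ⊢
      exact h3 c h1 x h2 hx
    obtain ⟨A, hA⟩ := exists_rad hp N.typ hr hrp hP
    have hAP : A ≤ imD F C.as.normal (fit S) := fun x hx => ((hA x).1 hx).1.1
    have hA' : EA p 3 A := ⟨hr, hrp, Finite.of_injective _ (Subgroup.inclusion_injective hAP),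
      fun x hx y hy => ((hA y).1 hy).1.2.2 x (hAP hx), fun x hx => ((hA x).1 hx).1.2.1,
      fun x hx y hy => ((hA y).1 hy).2 x ((hA x).1 hx).1⟩
    have hAI : F.L.Inv S A := fun φ hφ a ha => by
      rw [hA] at ha ⊢
      refine ⟨inv_OZ hI φ hφ ha.1, fun z hz => ?_⟩
      have h1 := (ha.2 _ (inv_OZ hI φ⁻¹ (π_inv hφ) hz)).wfr (F.L.wfr φ φ.2)
      rwa [app_inv] at h1
    have hA0 : A = ⊥ := by
      refine N.noT A (hA'.toral_of_card ?_) hAI
      have h1 : pb F.L A = ⊥ := by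
        by_contra h2
        obtain ⟨E, h4, h5⟩ := exists_loc_of_ea N hA' hAI h2
        exact hno E 3 h4 h5
      have h2 : A ⊓ F.L.ι.range = ⊥ := eq_bot_iff.2 (by
        rintro _ ⟨h4, x, rfl⟩
        have h5 := coe_mem_pb.2 h4
        rw [h1, Subgroup.mem_bot] at h5
        rw [show x = 1 from Subtype.ext h5, map_one]
        exact one_mem _)
      have h4 := card_le_dM (hAP.trans (imD_le_fix C.as.normal _))
      rw [h2, Subgroup.card_bot] at h4
      exact h4.trans (by decide)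
    have hrad : ∀ x, OZ 3 (imD F C.as.normal (fit S)) x → (∀ z, OZ 3 (imD F C.as.normal (fit S)) z → Tp p z x) →
        x = 1 := fun x h1 h2 => Subgroup.mem_bot.1 (hA0.le ((hA x).2 ⟨h1, h2⟩))
    have hEL : EL p 3 (imD F C.as.normal (fit S)) := by
      by_cases h0 : imD F C.as.normal (fit S) = ⊥
      · refine ⟨hr, hrp, inferInstance, fun x hx y _ => ?_, fun x hx => ?_⟩
        · rw [Subgroup.mem_bot.1 (h0.le hx), one_mul, mul_one]
        · rw [Subgroup.mem_bot.1 (h0.le hx), one_pow]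
      · exact (rad_bot hp N.typ hr hrp hP h0 hrad).1
    have hpart : ∀ y ∈ imD F C.as.normal (fit S), y ≠ 1 → ∃ x : YY chevE6 p, x ^ 3 = 1 ∧ x * y = y * x ∧ ¬ Tp p y x := by
      intro y hy h1
      by_contra h2
      push Not at h2
      exact h1 (hrad y ⟨hy, hEL.pow y hy, fun z hz => hEL.comm z hz y hy⟩ fun z hz =>
        (h2 z hz.2.1 (hEL.comm z hz.1 y hy)).symm)
    have hf : Nat.card ↥(fit S ⊓ F.ID C.as.normal) ≤ 3 ^ 4 := by
      rw [← card_imD C.as]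
      refine card_le_81 hp hEL fun e he h1 => ?_
      obtain ⟨x, b1, b2, b3⟩ := hpart e he h1
      obtain ⟨K, b4, -, b5 | b5 | b5⟩ := exists_DD hp N.typ hr hrp (hEL.pow e he)
      · exact absurd ((b4 x b2 ⟨1, by rw [pow_one]; exact b1⟩).2 (b5 x b2)) b3
      · exact b5.2.2
      · exact absurd b5.2.1 (by norm_num)
    refine crit' hC N.typ C F numC6 (Fact.out : p.Prime).two_le hf ((card_inf_le C).trans ?_)
      (fun c b0 y b1 b2 b3 => le_b6 hC6 b1 (h3 c b0 y b1 b2) b3 (Or.inr (hpart y ((mem_imD C.as.normal).2 ⟨c, b0, b1⟩)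
        fun b4 => ?_))) fun _ _ => ⟨fun X b1 b2 b3 => ?_, by decide +kernel⟩
    · exact (Nat.pow_le_pow_left ((Subgroup.card_le_of_le (inf_le_inf_left _ (le_ID C.as.normal))).trans hf) 4).trans
        (by norm_num)
    · rw [b4, orderOf_one] at b2
      exact Nat.not_prime_one b2
    · refine (Subgroup.card_le_one_iff_eq_bot X).2 ?_
      by_contra b4
      rcases (hR 2 Nat.prime_two X b4 (b1.trans inf_le_right) b3 b2).2 with h | h
      · exact absurd h.2.1 (by norm_num)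
      · exact neE6_E7 h.1.symm
  · obtain rfl := hl.2.2.1 rfl
    have h1 : Nat.card ↥(fit S ⊓ T) ≤ 2 ^ 4 := by
      by_cases h0 : fit S ⊓ T = ⊥
      · rw [h0, Subgroup.card_bot]
        norm_num
      · refine ((hR 2 Nat.prime_two _ h0 inf_le_right (nm_fit_inf C.as.normal) (isPGroup_of_prime fun x hx => ?_)).2.resolve_left
          fun h => neE6_E7 h.1).2.2
        rw [← Subgroup.orderOf_coe] at hx ⊢
        exact ((hs x x.2 hx).resolve_left fun h => neE6_E7 h.1).2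
    exact critB hC N.typ C F numC7 (three_le hrp) h1 (fun c _ y a1 a2 a3 => by
      have h8 := le_bI hCI N.typ a1 a2 a3
      rwa [bI7] at h8) fun e => absurd e neE6_E7

/-- **No invariant toral subgroup.** -/
theorem boxNT_of (hCI : BoxCI) (hC6 : BoxCI6) (hC : BoxCrit) : BoxNT := by
  intro D l M hp hD p _ G _ _ T S C q F hA
  have N := ntCtx hD C F hA
  by_cases h : ∀ (E : Subgroup G) (r : ℕ), DS.Loc T S E r → ¬ EA p r (im F.L E)
  · exact caseC hCI hC6 hC C N h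
  · push Not at h
    obtain ⟨E, r, hL, hE⟩ := h
    exact (loc_struct N hL hE).elim (caseA hCI hC6 hC C N hL hE) (caseB hCI hC C N hL hE)

end Cfsg.Agent.SB.Exc.NT
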